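import Cfsg.Agent.Lib.Block.ConstFour.Structure
import Cfsg.Agent.Lib.Grp.Cores
import Cfsg.Agent.Lib.Grp.Frattini
import Cfsg.Agent.Lib.Recog.FpfFour
import Cfsg.Agent.Lib.Grp.Zassenhaus.Binary
import Cfsg.Agent.Lib.Fus.SmallSimple

/-!
The odd core: abelian, with quotient of order sixty or binary icosahedral.
-/

set_option autoImplicit false

namespace Cfsg.Agent.Block.ConstFour

universe u

variable {G : Type u} [Group G] [Fintype G] {u : G}

theorem fpf_inverts (N : Subgroup G) [N.Normal] (r : G) (hfpf : ∀ k ∈ N, Commute r k → k = 1)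
    {x : G} (hx : x ∈ N) (hc : Commute (r * r) x) : r * x * r⁻¹ = x⁻¹ := by
  have key : ∀ (σ : MulAut N), (∀ y, σ y = y → y = 1) → ∀ y, σ (σ y) = y → σ y = y⁻¹ :=
    fun σ h y hy => Cfsg.Agent.FpfFour.inverted_of_sq_fixed σ h y hy
  have h1 := key (MulAut.conjNormal r) (fun y hy => ?_) ⟨x, hx⟩ (Subtype.ext ?_)
  · simpa using congrArg Subtype.val h1
  · have e := congrArg Subtype.val hy
    rw [MulAut.conjNormal_apply] at e
    exact Subtype.ext (hfpf _ y.2 (mul_inv_eq_iff_eq_mul.1 e))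
  · rw [MulAut.conjNormal_apply, MulAut.conjNormal_apply]
    calc r * (r * x * r⁻¹) * r⁻¹ = (r * r) * x * (r * r)⁻¹ := by group
      _ = x := by rw [hc.eq, mul_inv_cancel_right]

theorem commutative_of_inverted (N : Subgroup G) (r : G) (hinv : ∀ x ∈ N, r * x * r⁻¹ = x⁻¹) :
    IsMulCommutative N := by
  refine ⟨⟨fun a b => Subtype.ext ?_⟩⟩
  have h : r * ((a : G) * b) * r⁻¹ = (r * a * r⁻¹) * (r * b * r⁻¹) := by group
  rw [hinv _ (mul_mem a.2 b.2), hinv _ a.2, hinv _ b.2, ← mul_inv_rev, inv_inj] at h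
  exact h

theorem core_eq (K : Subgroup G) [K.Normal] [IsSimpleGroup (G ⧸ K)] (hev : Even (Nat.card (G ⧸ K)))
    (O : Subgroup G) [O.Normal] (hO : Odd (Nat.card O))
    (hOK : ∀ k ∈ K, Odd (orderOf k) → k ∈ O) : Cfsg.oddCore G = O := by
  refine le_antisymm ?_ (Grp.le_pPrimeCore inferInstance (Nat.coprime_two_right.2 hO))
  haveI : (Cfsg.oddCore G).Normal := Grp.pPrimeCore_isNormal
  have hodd : Odd (Nat.card (Cfsg.oddCore G)) := Nat.coprime_two_right.1 Grp.pPrimeCore_coprime
  haveI : ((Cfsg.oddCore G).map (QuotientGroup.mk' K)).Normal :=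
    Subgroup.Normal.map inferInstance _ (QuotientGroup.mk'_surjective K)
  have hle : Cfsg.oddCore G ≤ K := by
    rcases ‹((Cfsg.oddCore G).map (QuotientGroup.mk' K)).Normal›.eq_bot_or_eq_top with e | e
    · rw [Subgroup.map_eq_bot_iff, QuotientGroup.ker_mk'] at e
      exact e
    · exfalso
      have := Subgroup.card_map_dvd (H := Cfsg.oddCore G) (QuotientGroup.mk' K)
      rw [e, Subgroup.card_top] at this
      exact Nat.not_even_iff_odd.2 (hodd.of_dvd_nat this) hev
  exact fun k hk => hOK k (hle hk) (hodd.of_dvd_nat (Subgroup.orderOf_dvd_natCard _ hk))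

/-- A group of order twice an odd number has a subgroup of the elements of odd order. -/
theorem odd_half (K : Subgroup G) (h2 : 2 ∣ Nat.card K) (h4 : ¬ 4 ∣ Nat.card K) :
    ∃ O : Subgroup G, O ≤ K ∧ Odd (Nat.card O) ∧ Nat.card K = 2 * Nat.card O ∧
      ∀ k ∈ K, (k ∈ O ↔ Odd (orderOf k)) := by
  haveI := Fact.mk Nat.prime_two
  obtain ⟨P⟩ : Nonempty (Sylow 2 K) := inferInstance
  have hP : Nat.card P = 2 := by
    rw [Sylow.card_eq_multiplicity]
    have h1 : (Nat.card K).factorization 2 = 1 := by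
      refine le_antisymm ?_ ((Nat.prime_two.dvd_iff_one_le_factorization Nat.card_pos.ne').1 h2)
      by_contra hlt
      exact h4 ((Nat.prime_two.pow_dvd_iff_le_factorization Nat.card_pos.ne').2 (by omega : 2 ≤ _))
    rw [h1, pow_one]
  have hnc : Subgroup.normalizer ((P : Subgroup K) : Set K) ≤
      Subgroup.centralizer ((P : Subgroup K) : Set K) := by
    intro g hg
    rw [Subgroup.mem_centralizer_iff]
    intro x hx
    by_cases hx1 : x = 1
    · simp [hx1]
    have hgx := (Subgroup.mem_normalizer_iff.1 hg x).1 hx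
    obtain ⟨y, -, huniq⟩ := (Nat.card_eq_two_iff' (1 : P)).1 hP
    have e1 := huniq ⟨x, hx⟩ fun e => hx1 (congrArg Subtype.val e)
    have e2 := huniq ⟨g * x * g⁻¹, hgx⟩ fun e => hx1 (conj_eq_one_iff.1 (congrArg Subtype.val e))
    have e := congrArg Subtype.val (e2.trans e1.symm)
    exact (mul_inv_eq_iff_eq_mul.1 e).symm
  have hcomp := MonoidHom.ker_transferSylow_isComplement' P hnc
  set O := (MonoidHom.transferSylow P hnc).ker
  have hcard : Nat.card K = 2 * Nat.card O := by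
    have hP' : Nat.card (P : Subgroup K) = 2 := hP
    rw [← hcomp.card_mul, hP', mul_comm]
  have hodd : Odd (Nat.card O) := by
    rw [← Nat.not_even_iff_odd, even_iff_two_dvd]
    intro hd
    exact h4 (by rw [hcard]; exact mul_dvd_mul_left 2 hd)
  refine ⟨O.map K.subtype, Subgroup.map_subtype_le _, ?_, ?_, fun k hk => ?_⟩
  · rwa [Subgroup.card_map_of_injective K.subtype_injective]
  · rwa [Subgroup.card_map_of_injective K.subtype_injective]
  · constructor
    · rintro ⟨k', hk', rfl⟩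
      rw [Subgroup.coe_subtype, Subgroup.orderOf_coe]
      exact hodd.of_dvd_nat (Subgroup.orderOf_dvd_natCard _ hk')
    · intro ho
      refine ⟨⟨k, hk⟩, ?_, rfl⟩
      rw [SetLike.mem_coe, MonoidHom.mem_ker, ← orderOf_eq_one_iff]
      refine Nat.eq_one_of_dvd_coprimes (Nat.coprime_two_right.2 ho) ?_ ((orderOf_dvd_natCard _).trans (dvd_of_eq hP))
      exact (orderOf_map_dvd _ _).trans (dvd_of_eq (Subgroup.orderOf_mk k hk))

/-- The conclusion. -/
theorem Frame.conclude {K : Subgroup G} [K.Normal] (h : Frame u K) :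
    IsMulCommutative (Cfsg.oddCore G) ∧
      ((Nonempty (G ⧸ Cfsg.oddCore G ≃* alternatingGroup (Fin 5)) ∧ orderOf u = 2) ∨
        (Grp.Zas.BinaryIco (G ⧸ Cfsg.oddCore G) ∧ orderOf u = 4)) := by
  classical
  haveI := Fact.mk Nat.prime_two
  obtain ⟨h60, hsimple⟩ := h.simple
  haveI := hsimple
  obtain ⟨eA⟩ := Fus.alternating_five_of_card h60
  have hev : Even (Nat.card (G ⧸ K)) := by rw [h60]; decide
  have hu1 : u ≠ 1 := fun e => h.not_mem (e ▸ K.one_mem)
  by_cases hA : ∀ k ∈ K, Commute u k → k = 1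
  · have huu : u * u = 1 := hA _ h.sq_mem ((Commute.refl u).mul_right (Commute.refl u))
    have hinv : ∀ x ∈ K, u * x * u⁻¹ = x⁻¹ := fun x hx =>
      fpf_inverts K u hA hx (by rw [huu]; exact Commute.one_left x)
    have hodd : Odd (Nat.card K) := by
      rw [← Nat.not_even_iff_odd, even_iff_two_dvd]
      intro hd
      obtain ⟨⟨x, hx⟩, ho⟩ := exists_prime_orderOf_dvd_card' (G := K) 2 hd
      rw [Subgroup.orderOf_mk] at ho
      have hx2 : x⁻¹ = x := inv_eq_of_mul_eq_one_right (by rw [← pow_two, ← ho, pow_orderOf_eq_one])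
      have := hinv x hx
      rw [hx2] at this
      rw [hA x hx (mul_inv_eq_iff_eq_mul.1 this), orderOf_one] at ho
      exact absurd ho (by norm_num)
    have hO := core_eq K hev K hodd fun k hk _ => hk
    refine ⟨?_, Or.inl ⟨?_, orderOf_eq_prime (by rw [pow_two, huu]) hu1⟩⟩
    · rw [hO]; exact commutative_of_inverted K u hinv
    · exact ⟨(QuotientGroup.quotientMulEquivOfEq hO).trans eA⟩
  push Not at hA
  obtain ⟨z, hzK, hzc, hz1⟩ := hA
  -- the centraliser meets the kernel in two elements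
  have huniq : ∀ k ∈ K, Commute u k → k = 1 ∨ k = z := by
    intro k hk hkc
    by_contra hne
    push Not at hne
    set W := K ⊓ Subgroup.centralizer ({u} : Set G)
    have hWdvd : Nat.card W ∣ 4 := h.cent ▸ Subgroup.card_dvd_of_le inf_le_right
    have hWne : Nat.card W ≠ 4 := fun e => by
      have := Subgroup.eq_of_le_of_card_ge (inf_le_right : W ≤ _) (by rw [e, h.cent])
      have hu : u ∈ W := this.ge (Subgroup.mem_centralizer_singleton_iff.2 rfl)
      exact h.not_mem hu.1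
    have h3 : ({1, z, k} : Finset G) ⊆ Finset.univ.filter (· ∈ W) := by
      intro x hx
      simp only [Finset.mem_insert, Finset.mem_singleton] at hx
      refine Finset.mem_filter.2 ⟨Finset.mem_univ _, ?_⟩
      rcases hx with rfl | rfl | rfl
      · exact one_mem _
      · exact ⟨hzK, Subgroup.mem_centralizer_singleton_iff.2 hzc.symm.eq⟩
      · exact ⟨hk, Subgroup.mem_centralizer_singleton_iff.2 hkc.symm.eq⟩
    have hle := Finset.card_le_card h3
    rw [Finset.card_insert_of_notMem (by simp [Ne.symm hz1, Ne.symm hne.1]),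
      Finset.card_pair hne.2.symm, ← Fintype.card_subtype, ← Nat.card_eq_fintype_card] at hle
    have h4 := Nat.le_of_dvd (by norm_num) hWdvd
    change 2 + 1 ≤ Nat.card W at hle
    have : Nat.card W = 3 := by omega
    rw [this] at hWdvd
    norm_num at hWdvd
  have hlocal : ∀ r, r ∉ K → r * r ∈ K → ∀ w ∈ K, w ≠ 1 → Commute r w →
      (∀ k ∈ K, Commute r k → k = 1 ∨ k = w) ∧ (r * r = 1 ↔ u * u = 1) := by
    intro r hr hr2 w hw hw1 hwc
    obtain ⟨c, hc⟩ := isConj_iff.1 (h.invol r hr hr2)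
    have hback : ∀ k ∈ K, Commute r k → c⁻¹ * k * c = 1 ∨ c⁻¹ * k * c = z := by
      intro k hk hkc
      refine huniq _ (by simpa using Subgroup.Normal.conj_mem inferInstance k hk c⁻¹) ?_
      have e : u = c⁻¹ * r * c := by rw [← hc]; group
      rw [e]
      show c⁻¹ * r * c * (c⁻¹ * k * c) = c⁻¹ * k * c * (c⁻¹ * r * c)
      calc c⁻¹ * r * c * (c⁻¹ * k * c) = c⁻¹ * (r * k) * c := by group
        _ = c⁻¹ * (k * r) * c := by rw [hkc.eq]
        _ = _ := by group
    have hw' : c⁻¹ * w * c = z := by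
      refine (hback w hw hwc).resolve_left fun e => hw1 ?_
      calc w = c * (c⁻¹ * w * c) * c⁻¹ := by group
        _ = 1 := by rw [e]; group
    refine ⟨fun k hk hkc => ?_, ?_⟩
    · rcases hback k hk hkc with e | e
      · left
        calc k = c * (c⁻¹ * k * c) * c⁻¹ := by group
          _ = 1 := by rw [e]; group
      · right
        calc k = c * (c⁻¹ * k * c) * c⁻¹ := by group
          _ = c * (c⁻¹ * w * c) * c⁻¹ := by rw [e, hw']
          _ = w := by group
    · have e : r * r = c * (u * u) * c⁻¹ := by rw [← hc]; group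
      rw [e, conj_eq_one_iff]
  have hz2 : z * z = 1 := by
    rcases huniq (z * z) (mul_mem hzK hzK) (hzc.mul_right hzc) with e | e
    · exact e
    · exact absurd (mul_eq_right.1 e) hz1
  -- a Sylow subgroup
  have hzo : orderOf z = 2 := orderOf_eq_prime (by rw [pow_two, hz2]) hz1
  obtain ⟨R, hR⟩ := (IsPGroup.of_card (p := 2) (n := 1)
    (by rw [Nat.card_zpowers, hzo, pow_one] : Nat.card (Subgroup.zpowers z) = 2 ^ 1)).exists_le_sylow
  haveI : Group.IsNilpotent (R : Subgroup G) := R.isPGroup'.isNilpotent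
  have hS : K.subgroupOf (R : Subgroup G) ⊓ Subgroup.center (R : Subgroup G) ≠ ⊥ :=
    Grp.inf_center_ne_bot _ (fun e => by
      have : (⟨z, hR (Subgroup.mem_zpowers z)⟩ : (R : Subgroup G)) ∈ K.subgroupOf (R : Subgroup G) := hzK
      rw [e, Subgroup.mem_bot] at this
      exact hz1 (congrArg Subtype.val this))
  obtain ⟨⟨⟨z₀, hz₀R⟩, hz₀K, hz₀c⟩, hne₀⟩ := (Subgroup.ne_bot_iff_exists_ne_one).1 hS
  have hz₀1 : (⟨z₀, hz₀R⟩ : (R : Subgroup G)) ≠ 1 := fun e => hne₀ (Subtype.ext e)
  have hz₀1' : z₀ ≠ 1 := fun e => hz₀1 (Subtype.ext e)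
  have hcR : ∀ r ∈ (R : Subgroup G), Commute r z₀ := fun r hr =>
    congrArg Subtype.val (Subgroup.mem_center_iff.1 hz₀c ⟨r, hr⟩)
  have hlift : ∀ r ∈ (R : Subgroup G), r * r ∈ K := by
    intro r hr
    obtain ⟨k, hk⟩ := R.isPGroup' ⟨r, hr⟩
    have hk' : r ^ 2 ^ k = 1 := congrArg Subtype.val hk
    clear hk
    induction k generalizing r with
    | zero =>
      rw [pow_zero, pow_one] at hk'
      rw [hk', one_mul]; exact one_mem _
    | succ k ih =>
      refine h.four r (ih (r * r) (mul_mem hr hr) ?_)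
      rw [← pow_two, ← pow_mul, ← pow_succ', hk']
  have hsq : ∀ r ∈ (R : Subgroup G), r ∉ K →
      r * r = if u * u = 1 then 1 else z₀ := by
    intro r hr hrK
    obtain ⟨huni, heps⟩ := hlocal r hrK (hlift r hr) z₀ hz₀K hz₀1' (hcR r hr)
    split_ifs with e
    · exact heps.2 e
    · exact (huni _ (hlift r hr) ((Commute.refl r).mul_right (Commute.refl r))).resolve_left fun e' =>
        e (heps.1 e')
  have hinvS : ∀ r ∈ (R : Subgroup G), r ∉ K → ∀ s ∈ (R : Subgroup G), s ∈ K → r * s * r⁻¹ = s⁻¹ := by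
    intro r hr hrK s hsR hsK
    have hrs : r * s ∉ K := fun e => hrK (by simpa using mul_mem e (inv_mem hsK))
    have e : r * s * (r * s) = r * r := by rw [hsq _ (mul_mem hr hsR) hrs, hsq r hr hrK]
    have e2 : s * (r * s) = r := mul_left_cancel (a := r) (by rw [← mul_assoc]; exact e)
    calc r * s * r⁻¹ = s⁻¹ * (s * (r * s)) * r⁻¹ := by group
      _ = s⁻¹ := by rw [e2, mul_inv_cancel_right]
  -- two independent elements over involutions
  have himg : Nat.card ((R : Subgroup G).map (QuotientGroup.mk' K)) = 4 := by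
    have := (R.mapSurjective (QuotientGroup.mk'_surjective K)).card_eq_multiplicity
    rw [h60, show (60 : ℕ).factorization 2 = 2 from by
      refine le_antisymm ?_ ((Nat.prime_two.pow_dvd_iff_le_factorization (by norm_num)).1 (by norm_num))
      by_contra hlt
      exact absurd ((Nat.prime_two.pow_dvd_iff_le_factorization (by norm_num : (60 : ℕ) ≠ 0)).2
        (by omega : 3 ≤ _)) (by norm_num)] at this
    exact this
  obtain ⟨r₁, r₂, hr₁, hr₂, hr₁K, hr₂K, hr₁₂⟩ : ∃ r₁ r₂, r₁ ∈ (R : Subgroup G) ∧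
      r₂ ∈ (R : Subgroup G) ∧ r₁ ∉ K ∧ r₂ ∉ K ∧ r₁ * r₂ ∉ K := by
    set I := (R : Subgroup G).map (QuotientGroup.mk' K)
    obtain ⟨a, b, ha, hb, hab⟩ : ∃ a b : I, a ≠ 1 ∧ b ≠ 1 ∧ a ≠ b := by
      have hone : 1 < (Finset.univ.erase (1 : I)).card := by
        rw [Finset.card_erase_of_mem (Finset.mem_univ _), Finset.card_univ, ← Nat.card_eq_fintype_card, himg]
        norm_num
      obtain ⟨a, b, ha, hb, hne⟩ := Finset.one_lt_card_iff.1 hone
      exact ⟨a, b, Finset.ne_of_mem_erase ha, Finset.ne_of_mem_erase hb, hne⟩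
    obtain ⟨r₁, hr₁, e₁⟩ := a.2
    obtain ⟨r₂, hr₂, e₂⟩ := b.2
    refine ⟨r₁, r₂, hr₁, hr₂, ?_, ?_, ?_⟩
    · exact fun e => ha (Subtype.ext (e₁.symm.trans ((QuotientGroup.eq_one_iff r₁).2 e)))
    · exact fun e => hb (Subtype.ext (e₂.symm.trans ((QuotientGroup.eq_one_iff r₂).2 e)))
    · intro e
      refine hab (Subtype.ext ?_)
      rw [← e₁, ← e₂]
      have hmul : QuotientGroup.mk' K r₁ * QuotientGroup.mk' K r₂ = 1 := by
        rw [← map_mul]; exact (QuotientGroup.eq_one_iff _).2 e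
      have hsq' : QuotientGroup.mk' K r₂ * QuotientGroup.mk' K r₂ = 1 := by
        rw [← map_mul]; exact (QuotientGroup.eq_one_iff _).2 (hlift r₂ hr₂)
      exact mul_right_cancel (hmul.trans hsq'.symm)
  have hsmall : ∀ s ∈ (R : Subgroup G), s ∈ K → s = 1 ∨ s = z₀ := by
    intro s hsR hsK
    have h1 := hinvS r₁ hr₁ hr₁K s hsR hsK
    have h2 := hinvS r₂ hr₂ hr₂K s hsR hsK
    have h12 := hinvS _ (mul_mem hr₁ hr₂) hr₁₂ s hsR hsK
    have hs : s⁻¹ = s := by
      calc s⁻¹ = r₁ * r₂ * s * (r₁ * r₂)⁻¹ := h12.symm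
        _ = r₁ * (r₂ * s * r₂⁻¹) * r₁⁻¹ := by group
        _ = (r₁ * s * r₁⁻¹)⁻¹ := by rw [h2]; group
        _ = s := by rw [h1, inv_inv]
    exact (hlocal r₁ hr₁K (hlift r₁ hr₁) z₀ hz₀K hz₀1' (hcR r₁ hr₁)).1 s hsK
      (mul_inv_eq_iff_eq_mul.1 (h1.trans hs))
  have h2K : 2 ∣ Nat.card K := hzo ▸ Subgroup.orderOf_dvd_natCard _ hzK
  have h4K : ¬ 4 ∣ Nat.card K := by
    intro hd
    obtain ⟨Q, hQ⟩ := Sylow.exists_subgroup_card_pow_prime (G := K) 2 (n := 2) (by simpa using hd)
    have hQ' : Nat.card (Q.map K.subtype) = 2 ^ 2 := by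
      rw [Subgroup.card_map_of_injective K.subtype_injective, hQ]
    obtain ⟨R', hR'⟩ := (IsPGroup.of_card hQ').exists_le_sylow
    obtain ⟨c, hc⟩ := MulAction.exists_smul_eq G R R'
    have hmem : ∀ q ∈ Q.map K.subtype, c⁻¹ * q * c = 1 ∨ c⁻¹ * q * c = z₀ := by
      intro q hq
      refine hsmall _ ?_ (by simpa using Subgroup.Normal.conj_mem inferInstance q (Subgroup.map_subtype_le _ hq) c⁻¹)
      have hq' := hR' hq
      rw [← hc, Sylow.coe_subgroup_smul, Subgroup.mem_pointwise_smul_iff_inv_smul_mem,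
        MulAut.smul_def, MulAut.inv_def, MulAut.conj_symm_apply] at hq'
      exact hq'
    have hsub : (Finset.univ.filter (· ∈ Q.map K.subtype)) ⊆ {1, c * z₀ * c⁻¹} := by
      intro q hq
      rw [Finset.mem_insert, Finset.mem_singleton]
      rcases hmem q (Finset.mem_filter.1 hq).2 with e | e
      · left
        calc q = c * (c⁻¹ * q * c) * c⁻¹ := by group
          _ = 1 := by rw [e]; group
      · right
        calc q = c * (c⁻¹ * q * c) * c⁻¹ := by group
          _ = c * z₀ * c⁻¹ := by rw [e]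
    have := (Finset.card_le_card hsub).trans Finset.card_le_two
    rw [← Fintype.card_subtype, ← Nat.card_eq_fintype_card] at this
    change Nat.card (Q.map K.subtype) ≤ 2 at this
    omega
  obtain ⟨O, hOK, hOodd, hKO, hO⟩ := odd_half K h2K h4K
  haveI hOn : O.Normal := ⟨fun n hn g => (hO _ (Subgroup.Normal.conj_mem inferInstance n (hOK hn) g)).2 (by
    rw [← MulAut.conj_apply, MulEquiv.orderOf_eq]; exact (hO n (hOK hn)).1 hn)⟩
  have hcore := core_eq K hev O hOodd fun k hk ho => (hO k hk).2 ho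
  have hzO : ∀ w ∈ K, orderOf w = 2 → w ∉ O := fun w hw hw2 hwO => by
    have := (hO w hw).1 hwO
    rw [hw2] at this
    exact absurd this (by decide)
  let π : G ⧸ O →* G ⧸ K := QuotientGroup.map O K (MonoidHom.id G) hOK
  have hπ : Function.Surjective π := by
    intro q
    obtain ⟨g, rfl⟩ := QuotientGroup.mk_surjective q
    exact ⟨g, rfl⟩
  have hπker : ∀ g : G, (g : G ⧸ O) ∈ π.ker ↔ g ∈ K := fun g => QuotientGroup.eq_one_iff g
  have hkcard : Nat.card π.ker = 2 := by
    have h1 := Subgroup.card_mul_index π.ker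
    rw [Subgroup.index_ker, MonoidHom.range_eq_top.2 hπ, Subgroup.card_top, h60, ← Subgroup.index_eq_card] at h1
    have h2 := Subgroup.card_mul_index O
    have h3 := Subgroup.card_mul_index K
    rw [h.index, hKO] at h3
    have hOpos : 0 < Nat.card O := Nat.card_pos
    have : Nat.card O * O.index = Nat.card O * 120 := by rw [h2, ← h3]; ring
    have := Nat.eq_of_mul_eq_mul_left hOpos this
    omega
  have hperfQ : commutator (G ⧸ O) = ⊤ := by
    rw [commutator_def, ← Subgroup.map_top_of_surjective (QuotientGroup.mk' O) (QuotientGroup.mk'_surjective O),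
      ← Subgroup.map_commutator, ← commutator_def, h.perfect]
  by_cases huu : u * u = 1
  · -- elementary abelian Sylow subgroup: transfer
    exfalso
    obtain ⟨P⟩ : Nonempty (Sylow 2 (G ⧸ O)) := inferInstance
    have hkerz : ∀ k : π.ker, k * k = 1 := fun k => by
      have := pow_card_eq_one' (x := k)
      rwa [hkcard, pow_two] at this
    have hexp : ∀ x ∈ (P : Subgroup (G ⧸ O)), x * x = 1 := by
      intro x hx
      obtain ⟨g, rfl⟩ := QuotientGroup.mk_surjective x
      obtain ⟨k, hk⟩ := P.isPGroup' ⟨_, hx⟩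
      have hk' : ((g : G ⧸ O)) ^ 2 ^ k = 1 := congrArg Subtype.val hk
      have hg2 : g * g ∈ K := by
        have hgK : g ^ 2 ^ k ∈ K := hOK ((QuotientGroup.eq_one_iff _).1 (by rw [QuotientGroup.mk_pow]; exact hk'))
        clear hk hk' hx
        induction k generalizing g with
        | zero => rw [pow_zero, pow_one] at hgK; exact mul_mem hgK hgK
        | succ k ih =>
          refine h.four g (ih (g * g) ?_)
          rwa [← pow_two, ← pow_mul, mul_comm, ← pow_succ]
      by_cases hg : g ∈ K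
      · exact congrArg Subtype.val (hkerz ⟨_, (hπker g).2 hg⟩)
      · obtain ⟨c, hc⟩ := isConj_iff.1 (h.invol g hg hg2)
        rw [← QuotientGroup.mk_mul, ← hc, show c * u * c⁻¹ * (c * u * c⁻¹) = c * (u * u) * c⁻¹ by group,
          huu, mul_one, mul_inv_cancel, QuotientGroup.mk_one]
    haveI hPc : IsMulCommutative (P : Subgroup (G ⧸ O)) := ⟨⟨fun a b => Subtype.ext (by
      have ha := hexp _ a.2
      have hb := hexp _ b.2
      have hab := hexp _ (mul_mem a.2 b.2)
      show (a : G ⧸ O) * b = b * a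
      rw [← inv_eq_of_mul_eq_one_right hab, mul_inv_rev, inv_eq_of_mul_eq_one_right ha,
        inv_eq_of_mul_eq_one_right hb])⟩⟩
    letI : CommGroup (P : Subgroup (G ⧸ O)) :=
      { (inferInstance : Group (P : Subgroup (G ⧸ O))) with mul_comm := mul_comm' }
    set T : G ⧸ O →* (P : Subgroup (G ⧸ O)) := MonoidHom.transfer (MonoidHom.id (P : Subgroup (G ⧸ O)))
    have hT : ∀ q, T q = 1 := fun q => MonoidHom.mem_ker.1
      (Abelianization.commutator_subset_ker T (by rw [hperfQ]; exact Subgroup.mem_top q))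
    obtain ⟨w, hw1, hwuniq⟩ := (Nat.card_eq_two_iff' (1 : π.ker)).1 hkcard
    have hwc : ∀ q : G ⧸ O, q * w * q⁻¹ = w := fun q => by
      have hmem : q * (w : G ⧸ O) * q⁻¹ ∈ π.ker := (MonoidHom.normal_ker π).conj_mem _ w.2 q
      exact congrArg Subtype.val (hwuniq ⟨_, hmem⟩ fun e =>
        hw1 (Subtype.ext (conj_eq_one_iff.1 (congrArg Subtype.val e))))
    have hw2 : (w : G ⧸ O) * w = 1 := congrArg Subtype.val (hkerz w)
    have hpow : ∀ k : ℕ, ∀ q : G ⧸ O, q⁻¹ * (w : G ⧸ O) ^ k * q = (w : G ⧸ O) ^ k := fun k q => by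
      have hq := hwc q⁻¹
      rw [inv_inv] at hq
      rw [show q⁻¹ * (w : G ⧸ O) ^ k * q = (MulAut.conj q⁻¹) ((w : G ⧸ O) ^ k) by simp, map_pow,
        MulAut.conj_apply, inv_inv, hq]
    have hval := MonoidHom.transfer_eq_pow (H := (P : Subgroup (G ⧸ O)))
      (ϕ := MonoidHom.id (P : Subgroup (G ⧸ O))) (w : G ⧸ O) fun k q _ => hpow k q
    change T (w : G ⧸ O) = _ at hval
    rw [hT] at hval
    have hval' : (1 : G ⧸ O) = (w : G ⧸ O) ^ (P : Subgroup (G ⧸ O)).index := congrArg Subtype.val hval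
    obtain ⟨m, hm⟩ : Odd (P : Subgroup (G ⧸ O)).index := by
      rw [← Nat.not_even_iff_odd, even_iff_two_dvd]; exact P.not_dvd_index
    rw [hm, pow_succ, pow_mul, pow_two, hw2, one_pow, one_mul] at hval'
    exact hw1 (Subtype.ext hval'.symm)
  have hz₀o : orderOf z₀ = 2 := by
    refine orderOf_eq_prime ?_ hz₀1'
    have h1 := hsq r₁ hr₁ hr₁K
    rw [if_neg huu] at h1
    rcases (hlocal r₁ hr₁K (hlift r₁ hr₁) z₀ hz₀K hz₀1' (hcR r₁ hr₁)).1 (z₀ * z₀)
      (mul_mem hz₀K hz₀K) ((hcR r₁ hr₁).mul_right (hcR r₁ hr₁)) with e | e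
    · rw [pow_two, e]
    · exact absurd (mul_eq_right.1 e) hz₀1'
  have hnoz : ∀ k ∈ O, Commute z₀ k → k = 1 := by
    intro k hk hkc
    have hinv : ∀ r ∈ (R : Subgroup G), r ∉ K → r * k * r⁻¹ = k⁻¹ := by
      intro r hr hrK
      refine fpf_inverts O r (fun m hm hmc => ?_) hk (by rw [hsq r hr hrK, if_neg huu]; exact hkc)
      rcases (hlocal r hrK (hlift r hr) z₀ hz₀K hz₀1' (hcR r hr)).1 m (hOK hm) hmc with e | e
      · exact e
      · exact absurd (e ▸ hm) (hzO z₀ hz₀K hz₀o)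
    have h1 := hinv r₁ hr₁ hr₁K
    have h2 := hinv r₂ hr₂ hr₂K
    have h12 := hinv _ (mul_mem hr₁ hr₂) hr₁₂
    have hk2 : k⁻¹ = k := by
      calc k⁻¹ = r₁ * r₂ * k * (r₁ * r₂)⁻¹ := h12.symm
        _ = r₁ * (r₂ * k * r₂⁻¹) * r₁⁻¹ := by group
        _ = (r₁ * k * r₁⁻¹)⁻¹ := by rw [h2]; group
        _ = k := by rw [h1, inv_inv]
    have hd : orderOf k ∣ 2 := orderOf_dvd_of_pow_eq_one (by rw [pow_two]; nth_rw 1 [← hk2]; exact inv_mul_cancel k)
    exact orderOf_eq_one_iff.1 (Nat.eq_one_of_dvd_coprimes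
      (Nat.coprime_two_right.2 ((hO k (hOK hk)).1 hk)) dvd_rfl hd)
  have hz₀sq : z₀ * z₀ = 1 := by rw [← pow_two, ← hz₀o, pow_orderOf_eq_one]
  have hu2 : u * u = z :=
    (huniq _ h.sq_mem ((Commute.refl u).mul_right (Commute.refl u))).resolve_left huu
  subst hcore
  refine ⟨?_, Or.inr ⟨?_, ?_⟩⟩
  · exact commutative_of_inverted _ z₀ fun x hx =>
      fpf_inverts _ z₀ hnoz hx (by rw [hz₀sq]; exact Commute.one_left x)
  · refine ⟨⟨eA.toMonoidHom.comp π, eA.surjective.comp hπ, ?_⟩, ?_, hperfQ⟩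
    · have e : (eA.toMonoidHom.comp π).ker = π.ker := by
        ext g; simp [MonoidHom.mem_ker]
      rw [e, hkcard]
    · have hmem : ∀ v : G ⧸ Cfsg.oddCore G, orderOf v = 2 → v ∈ π.ker := by
        intro v hv
        obtain ⟨g, rfl⟩ := QuotientGroup.mk_surjective v
        rw [hπker]
        by_contra hg
        have hg2 : g * g ∈ Cfsg.oddCore G := by
          rw [← QuotientGroup.eq_one_iff, QuotientGroup.mk_mul, ← pow_two, ← hv, pow_orderOf_eq_one]
        obtain ⟨c, hc⟩ := isConj_iff.1 (h.invol g hg (hOK hg2))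
        refine hzO (g * g) (hOK hg2) ?_ hg2
        rw [← hc, show c * u * c⁻¹ * (c * u * c⁻¹) = c * (u * u) * c⁻¹ by group, hu2,
          ← MulAut.conj_apply, MulEquiv.orderOf_eq, hzo]
      intro v w hv hw
      obtain ⟨x, -, huq⟩ := (Nat.card_eq_two_iff' (1 : π.ker)).1 hkcard
      have e1 := huq ⟨v, hmem v hv⟩ fun e => by
        rw [show v = 1 from congrArg Subtype.val e, orderOf_one] at hv; exact absurd hv (by norm_num)
      have e2 := huq ⟨w, hmem w hw⟩ fun e => by
        rw [show w = 1 from congrArg Subtype.val e, orderOf_one] at hw; exact absurd hw (by norm_num)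
      exact congrArg Subtype.val (e1.trans e2.symm)
  · refine orderOf_eq_prime_pow (p := 2) (n := 1) ?_ ?_
    · rw [pow_one, pow_two]; exact huu
    · rw [show (2 : ℕ) ^ (1 + 1) = 2 * 2 from rfl, pow_mul, pow_two, pow_two, hu2, hz2]

end Cfsg.Agent.Block.ConstFour
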