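import Cfsg.Agent.Lib.Block.ConstFour.DegreeThree

/-!
A perfect group with a faithful real character of degree three: at most two fifths of the elements
have order five; three related characters cannot coexist.
-/

set_option autoImplicit false

namespace Cfsg.Agent.Block.ConstFour

open Cfsg Cfsg.Agent.Char
open scoped ComplexConjugate

universe u

variable {H : Type u} [Group H] [Fintype H]

theorem sum_dvd {χ : H → ℂ} (hχ : IsCharacter H χ) {K : Type u} [Group K] [Fintype K] (f : K →* H) :
    ∃ n : ℕ, ∑ x : K, χ (f x) = (Nat.card K : ℂ) * n := by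
  obtain ⟨n, hn⟩ := IsChar.classInner_nat (IsChar.comp f hχ) (IsChar.one (G := K))
  refine ⟨n, ?_⟩
  rw [← hn, classInner, ← mul_assoc, mul_inv_cancel₀ (Nat.cast_ne_zero.2 Nat.card_pos.ne'), one_mul]
  exact Finset.sum_congr rfl fun x _ => by rw [map_one, mul_one]

/-- A faithful real character of degree three. -/
structure Three (χ : H → ℂ) : Prop where
  irr : IsIrrCharacter H χ
  deg : χ 1 = 3
  real : ∀ g, conj (χ g) = χ g
  faithful : ∀ g, χ g = 3 → g = 1

theorem Three.sq (hH : commutator H = ⊤) {χ : H → ℂ} (h : Three χ) (g : H) :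
    χ (g ^ 2) = χ g ^ 2 - 2 * χ g := by
  rw [sq_value hH h.irr h.deg, h.real]

theorem Three.pair (hH : commutator H = ⊤) {χ : H → ℂ} (h : Three χ) {x : H} (hx : orderOf x = 5) :
    χ x + χ (x ^ 2) = 1 := by
  have h4 : χ ((x ^ 2) ^ 2) = χ x := by
    rw [← pow_mul, show x ^ (2 * 2) = x⁻¹ from eq_inv_of_mul_eq_one_left (by
      rw [← pow_succ, show 2 * 2 + 1 = orderOf x by rw [hx], pow_orderOf_eq_one]),
      IsIrr.apply_inv h.irr, h.real]
  rw [h.sq hH (x ^ 2)] at h4
  have h2 := h.sq hH x
  have : (χ x - χ (x ^ 2)) * (χ x + χ (x ^ 2) - 1) = 0 := by linear_combination -h2 - h4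
  rcases mul_eq_zero.1 this with e | e
  · exfalso
    rw [← sub_eq_zero.1 e] at h2
    have : χ x * (χ x - 3) = 0 := by linear_combination -h2
    rcases mul_eq_zero.1 this with e' | e'
    · obtain ⟨n, hn⟩ := sum_dvd (IsIrr.isCharacter h.irr) (Subgroup.zpowers x).subtype
      classical
      have hcard : Nat.card (Subgroup.zpowers x) = 5 := by rw [Nat.card_zpowers, hx]
      rw [hcard, Finset.sum_eq_single (1 : Subgroup.zpowers x)] at hn
      · rw [map_one, h.deg] at hn
        have hn' : (3 : ℕ) = 5 * n := by exact_mod_cast hn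
        omega
      · intro y _ hy
        obtain ⟨k, hk⟩ := mem_powers_iff_mem_zpowers.2 y.2
        change x ^ k = (y : H) at hk
        have hk0 : k % 5 ≠ 0 := fun e0 => hy (Subtype.ext (by
          rw [← hk, ← pow_mod_orderOf, hx, e0, pow_zero]; rfl))
        have hk5 : k % 5 < 5 := Nat.mod_lt _ (by norm_num)
        show χ (y : H) = 0
        rw [← hk, ← pow_mod_orderOf, hx]
        have h2' : χ (x ^ 2) = 0 := (sub_eq_zero.1 e).symm.trans e'
        have h4' : χ (x ^ 4) = 0 := by
          rw [show x ^ 4 = (x ^ 2) ^ 2 by rw [← pow_mul], h.sq hH, h2']; ring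
        have h3' : χ (x ^ 3) = 0 := by
          rw [show x ^ 3 = (x ^ 2)⁻¹ from eq_inv_of_mul_eq_one_left (by
            rw [← pow_add, show 3 + 2 = orderOf x by rw [hx], pow_orderOf_eq_one]),
            IsIrr.apply_inv h.irr, h.real, h2']
        interval_cases (k % 5)
        · exact absurd rfl hk0
        · rw [pow_one]; exact e'
        · exact h2'
        · exact h3'
        · exact h4'
      · exact fun e0 => absurd (Finset.mem_univ _) e0
    · rw [h.faithful x (sub_eq_zero.1 e'), orderOf_one] at hx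
      exact absurd hx (by norm_num)
  · linear_combination e

/-- Commuting elements of order five generate the same subgroup. -/
theorem Three.mem_zpowers (hH : commutator H = ⊤) {χ : H → ℂ} (h : Three χ) {z w : H}
    (hz : orderOf z = 5) (hw : orderOf w = 5) (hc : Commute z w) : w ∈ Subgroup.zpowers z := by
  classical
  by_contra hnot
  haveI : Fact (Nat.Prime 5) := ⟨by norm_num⟩
  have hcomm : ∀ (a : Subgroup.zpowers z) (b : Subgroup.zpowers w), Commute (a : H) (b : H) :=
    fun a b => by
      obtain ⟨i, hi⟩ := Subgroup.mem_zpowers_iff.1 a.2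
      obtain ⟨j, hj⟩ := Subgroup.mem_zpowers_iff.1 b.2
      rw [← hi, ← hj]
      exact hc.zpow_zpow i j
  let f : Subgroup.zpowers z × Subgroup.zpowers w →* H :=
    MonoidHom.noncommCoprod (Subgroup.zpowers z).subtype (Subgroup.zpowers w).subtype hcomm
  have hinj : ∀ x, f x = 1 → x = 1 := by
    rintro ⟨a, b⟩ hab
    change (a : H) * (b : H) = 1 at hab
    have hb : (b : H) ∈ Subgroup.zpowers z := by
      rw [eq_inv_of_mul_eq_one_right hab]
      exact inv_mem a.2
    have hb1 : b = 1 := by
      by_contra hb1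
      refine hnot ?_
      have hzb : Subgroup.zpowers (b : H) = Subgroup.zpowers w := by
        refine Subgroup.eq_of_le_of_card_ge (Subgroup.zpowers_le.2 b.2) (le_of_eq ?_)
        rw [Nat.card_zpowers, Nat.card_zpowers, hw]
        symm
        refine orderOf_eq_prime ?_ fun e => hb1 (Subtype.ext e)
        obtain ⟨j, hj⟩ := Subgroup.mem_zpowers_iff.1 b.2
        rw [← hj, ← zpow_natCast, ← zpow_mul, mul_comm, zpow_mul, zpow_natCast, ← hw,
          pow_orderOf_eq_one, one_zpow]
      exact Subgroup.zpowers_le.2 hb (by rw [hzb]; exact Subgroup.mem_zpowers w)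
    subst hb1
    rw [OneMemClass.coe_one, mul_one] at hab
    exact Prod.ext (Subtype.ext hab) rfl
  have hcard : Nat.card (Subgroup.zpowers z × Subgroup.zpowers w) = 25 := by
    rw [Nat.card_prod, Nat.card_zpowers, Nat.card_zpowers, hz, hw]
  obtain ⟨n, hn⟩ := sum_dvd (IsIrr.isCharacter h.irr) f
  let e : Subgroup.zpowers z × Subgroup.zpowers w ≃ Subgroup.zpowers z × Subgroup.zpowers w :=
    powCoprime (n := 2) (by rw [hcard]; norm_num)
  have hsq : ∑ x, χ (f (e x)) = ∑ x, χ (f x) := e.sum_comp fun x => χ (f x)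
  have hsplit : ∀ x, χ (f x) + χ (f (e x)) = if x = 1 then 6 else 1 := by
    intro x
    have hex : f (e x) = f x ^ 2 := by rw [← map_pow]; rfl
    rw [hex]
    by_cases hx : x = 1
    · rw [if_pos hx, hx, map_one, one_pow, h.deg]; norm_num
    · rw [if_neg hx]
      refine h.pair hH (orderOf_eq_prime ?_ fun e0 => hx (hinj x e0))
      rw [← map_pow, show x ^ 5 = 1 from ?_, map_one]
      obtain ⟨a, b⟩ := x
      refine Prod.ext (Subtype.ext ?_) (Subtype.ext ?_)
      · have := pow_card_eq_one' (x := a)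
        rw [Nat.card_zpowers, hz] at this
        exact congrArg Subtype.val this
      · have := pow_card_eq_one' (x := b)
        rw [Nat.card_zpowers, hw] at this
        exact congrArg Subtype.val this
  have h2 : 2 * ∑ x, χ (f x) = 30 := by
    calc 2 * ∑ x, χ (f x) = ∑ x, (χ (f x) + χ (f (e x))) := by rw [Finset.sum_add_distrib, hsq]; ring
      _ = ∑ x : Subgroup.zpowers z × Subgroup.zpowers w, if x = 1 then (6 : ℂ) else 1 :=
          Finset.sum_congr rfl fun x _ => hsplit x
      _ = 30 := by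
          rw [← Finset.add_sum_erase _ _ (Finset.mem_univ 1), if_pos rfl,
            Finset.sum_congr rfl fun x hx => if_neg (Finset.ne_of_mem_erase hx), Finset.sum_const,
            Finset.card_erase_of_mem (Finset.mem_univ _), Finset.card_univ, ← Nat.card_eq_fintype_card,
            hcard]
          norm_num
  rw [hn, hcard] at h2
  have h3 : 2 * (25 * n) = 30 := by exact_mod_cast h2
  omega

/-- At most two fifths of the elements have order five. -/
theorem Three.count_five (hH : commutator H = ⊤) {χ : H → ℂ} (h : Three χ) :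
    5 * (Finset.univ.filter fun g : H => orderOf g = 5).card ≤ 2 * Nat.card H := by
  classical
  haveI : Fact (Nat.Prime 5) := ⟨by norm_num⟩
  rcases (Finset.univ.filter fun g : H => orderOf g = 5).eq_empty_or_nonempty with he | ⟨g0, hg0⟩
  · rw [he, Finset.card_empty, mul_zero]; exact Nat.zero_le _
  have hg0' : orderOf g0 = 5 := (Finset.mem_filter.1 hg0).2
  obtain ⟨P⟩ : Nonempty (Sylow 5 H) := inferInstance
  have h5 : 5 ∣ Nat.card H := hg0' ▸ orderOf_dvd_natCard g0
  have hP1 : (P : Subgroup H) ≠ ⊥ := P.ne_bot_of_dvd_card h5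
  haveI : Nontrivial (P : Subgroup H) := (Subgroup.nontrivial_iff_ne_bot _).2 hP1
  haveI := P.isPGroup'.center_nontrivial
  obtain ⟨z0, hz0⟩ := exists_prime_orderOf_dvd_card' (G := Subgroup.center (P : Subgroup H)) 5 (by
    obtain ⟨k, hk0, hk⟩ := (P.isPGroup'.to_subgroup (Subgroup.center (P : Subgroup H))).nontrivial_iff_card.1 inferInstance
    rw [hk]; exact dvd_pow_self 5 hk0.ne')
  set z : H := ((z0 : (P : Subgroup H)) : H) with hzdef
  have hz : orderOf z = 5 := by rw [hzdef, Subgroup.orderOf_coe, Subgroup.orderOf_coe, hz0]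
  have hzc : ∀ p ∈ (P : Subgroup H), Commute z p := fun p hp => by
    have := Subgroup.mem_center_iff.1 z0.2 ⟨p, hp⟩
    exact (congrArg Subtype.val this).symm
  set Z := Subgroup.zpowers z with hZ
  set N := Subgroup.normalizer (Z : Set H) with hN
  have hZN : Z ≤ N := Subgroup.le_normalizer
  have hPN : (P : Subgroup H) ≤ N := fun p hp => by
    rw [hN, Subgroup.mem_normalizer_iff]
    intro y
    constructor
    · intro hy
      obtain ⟨i, hi⟩ := Subgroup.mem_zpowers_iff.1 hy
      rw [← hi, ← (hzc p hp).zpow_left i |>.eq, mul_inv_cancel_right]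
      exact Subgroup.zpow_mem_zpowers z i
    · intro hy
      obtain ⟨i, hi⟩ := Subgroup.mem_zpowers_iff.1 hy
      have : y = z ^ i := by
        calc y = p⁻¹ * (p * y * p⁻¹) * p := by group
          _ = p⁻¹ * (z ^ i * p) := by rw [← hi, mul_assoc]
          _ = z ^ i := by rw [((hzc p hp).zpow_left i).eq, inv_mul_cancel_left]
      rw [this]; exact Subgroup.zpow_mem_zpowers z i
  have hN10 : 10 ≤ Nat.card N := by
    have hZ5 : Nat.card Z = 5 := by rw [hZ, Nat.card_zpowers, hz]
    obtain ⟨k, hk⟩ := hZ5 ▸ Subgroup.card_dvd_of_le hZN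
    rcases Nat.lt_or_ge k 2 with hk2 | hk2
    swap
    · omega
    exfalso
    have hk1 : k = 1 := by
      have : 0 < Nat.card N := Nat.card_pos
      rcases Nat.eq_zero_or_pos k with rfl | hkp <;> omega
    have hNZ : Z = N := Subgroup.eq_of_le_of_card_ge hZN (by rw [hk, hk1, hZ5])
    have hPZ : (P : Subgroup H) = Z := by
      have hle : (P : Subgroup H) ≤ Z := hNZ.symm ▸ hPN
      exact P.3 (IsPGroup.of_card (n := 1) (by rw [hZ5, pow_one])) hle |>.symm
    have hnc : Subgroup.normalizer ((P : Subgroup H) : Set H) ≤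
        Subgroup.centralizer ((P : Subgroup H) : Set H) := by
      rw [hPZ, ← hN, ← hNZ]
      intro a ha
      rw [Subgroup.mem_centralizer_iff]
      intro b hb
      obtain ⟨i, rfl⟩ := Subgroup.mem_zpowers_iff.1 ha
      obtain ⟨j, rfl⟩ := Subgroup.mem_zpowers_iff.1 hb
      rw [← zpow_add, ← zpow_add, add_comm]
    have hcomp := MonoidHom.ker_transferSylow_isComplement' P hnc
    have htop : (MonoidHom.transferSylow P hnc).ker = ⊤ := by
      rw [eq_top_iff, ← hH, commutator_def, Subgroup.commutator_le]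
      intro a _ b _
      rw [MonoidHom.mem_ker, map_commutatorElement]
      refine commutatorElement_eq_one_iff_mul_comm.2 (Subtype.ext ?_)
      have hb := hnc (Subgroup.le_normalizer (MonoidHom.transferSylow P hnc b).2)
      exact ((Subgroup.mem_centralizer_iff.1 hb) _ (MonoidHom.transferSylow P hnc a).2)
    rw [htop, Subgroup.isComplement'_top_left] at hcomp
    exact hP1 hcomp
  let Ψ : (H ⧸ N) × {y : Z // y ≠ 1} → H := fun c => c.1.out * (c.2.1 : H) * c.1.out⁻¹
  have hsub : (Finset.univ.filter fun g : H => orderOf g = 5) ⊆ Finset.univ.image Ψ := by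
    intro g hg
    have hg5 : orderOf g = 5 := (Finset.mem_filter.1 hg).2
    obtain ⟨Q, hQ⟩ := (IsPGroup.of_card (p := 5) (n := 1)
      (by rw [Nat.card_zpowers, hg5, pow_one] : Nat.card (Subgroup.zpowers g) = 5 ^ 1)).exists_le_sylow
    obtain ⟨h', hh'⟩ := MulAction.exists_smul_eq H P Q
    have hgP : h'⁻¹ * g * h' ∈ (P : Subgroup H) := by
      have hgQ : g ∈ (Q : Subgroup H) := hQ (Subgroup.mem_zpowers g)
      rw [← hh', Sylow.coe_subgroup_smul, Subgroup.mem_pointwise_smul_iff_inv_smul_mem,
        MulAut.smul_def, MulAut.inv_def, MulAut.conj_symm_apply] at hgQ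
      exact hgQ
    have hwZ : h'⁻¹ * g * h' ∈ Z := by
      refine h.mem_zpowers hH hz ?_ (hzc _ hgP)
      rw [← hg5, show h'⁻¹ * g * h' = MulAut.conj h'⁻¹ g by simp, MulEquiv.orderOf_eq]
    set c : H ⧸ N := (h' : H ⧸ N) with hc
    obtain ⟨n, hn⟩ := QuotientGroup.mk_out_eq_mul N h'
    have hyZ : c.out⁻¹ * g * c.out ∈ Z := by
      have h1 := (Subgroup.mem_normalizer_iff.1 (inv_mem n.2) _).1 hwZ
      have e : c.out⁻¹ * g * c.out = (n : H)⁻¹ * (h'⁻¹ * g * h') * ((n : H)⁻¹)⁻¹ := by
        rw [hc, hn]; group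
      rw [e]; exact h1
    refine Finset.mem_image.2 ⟨(c, ⟨⟨_, hyZ⟩, fun e => ?_⟩), Finset.mem_univ _, ?_⟩
    · have e' := congrArg Subtype.val e
      simp only [OneMemClass.coe_one] at e'
      have : g = 1 := by
        calc g = c.out * (c.out⁻¹ * g * c.out) * c.out⁻¹ := by group
          _ = 1 := by rw [e']; group
      rw [this, orderOf_one] at hg5
      omega
    · show c.out * (c.out⁻¹ * g * c.out) * c.out⁻¹ = g
      group
  have hle := (Finset.card_le_card hsub).trans Finset.card_image_le
  rw [Finset.card_univ, Fintype.card_prod, ← Nat.card_eq_fintype_card, ← Subgroup.index_eq_card,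
    Fintype.card_subtype_compl, Fintype.card_subtype_eq, ← Nat.card_eq_fintype_card] at hle
  have hZ5 : Nat.card Z = 5 := by rw [hZ, Nat.card_zpowers, hz]
  rw [hZ5] at hle
  have hmul := Subgroup.card_mul_index N
  have : 10 * N.index ≤ Nat.card H := hmul ▸ Nat.mul_le_mul_right _ hN10
  omega

theorem diff_facts (hH : commutator H = ⊤) {a b : H → ℂ} (ha : Three a) (hb : Three b)
    (hrel : ∀ g, (a g - b g) * (a g + b g - 1) = 0) {g : H} (hne : a g ≠ b g) :
    orderOf g = 5 ∧ (a g - b g) ^ 2 = 5 := by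
  have hs : a g + b g - 1 = 0 := (mul_eq_zero.1 (hrel g)).resolve_left (sub_ne_zero.2 hne)
  have h2a := ha.sq hH g
  have h2b := hb.sq hH g
  have hne2 : a (g ^ 2) - b (g ^ 2) ≠ 0 := by
    intro e
    refine hne (sub_eq_zero.1 ?_)
    linear_combination -e + h2a - h2b + (a g - b g) * hs
  have hs2 := (mul_eq_zero.1 (hrel (g ^ 2))).resolve_left hne2
  have hgold : a g ^ 2 = a g + 1 := by
    linear_combination (1 / 2 : ℂ) * hs2 - (1 / 2 : ℂ) * h2a - (1 / 2 : ℂ) * h2b
      - (1 / 2 : ℂ) * (b g - a g - 1) * hs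
  refine ⟨?_, ?_⟩
  · haveI : Fact (Nat.Prime 5) := ⟨by norm_num⟩
    refine orderOf_eq_prime (ha.faithful _ (pow_five hH ha.irr ha.deg (ha.real g) hgold)) ?_
    rintro rfl
    exact hne (ha.deg.trans hb.deg.symm)
  · linear_combination 4 * hgold - (4 * a g - 2 - (a g + b g - 1)) * hs

/-- No three related characters. -/
theorem no_three (hH : commutator H = ⊤) (a : Fin 3 → H → ℂ) (ha : ∀ i, Three (a i))
    (hinj : Function.Injective a)
    (hrel : ∀ i j g, (a i g - a j g) * (a i g + a j g - 1) = 0) : False := by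
  classical
  have hnorm : ∀ i j, i ≠ j → ∑ g : H, (a i g - a j g) ^ 2 = 2 * (Nat.card H : ℂ) := by
    intro i j hij
    have h1 : classInner (a i - a j) (a i - a j) = 2 := by
      rw [classInner_sub_left, classInner_sub_right, classInner_sub_right, classInner_self_irr (ha i).irr,
        classInner_self_irr (ha j).irr, classInner_irr_ne (ha i).irr (ha j).irr fun e => hij (hinj e),
        classInner_irr_ne (ha j).irr (ha i).irr fun e => hij (hinj e).symm]
      norm_num
    rw [classInner, inv_mul_eq_iff_eq_mul₀ (Nat.cast_ne_zero.2 Nat.card_pos.ne'), mul_comm] at h1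
    rw [← h1]
    refine Finset.sum_congr rfl fun g _ => ?_
    rw [Pi.sub_apply, map_sub, (ha i).real, (ha j).real, sq]
  let F := Finset.univ.filter fun g : H => orderOf g = 5
  let c : H → ℕ := fun g => (if a 0 g = a 1 g then 0 else 1) + (if a 0 g = a 2 g then 0 else 1) +
    (if a 1 g = a 2 g then 0 else 1)
  have hval : ∀ i j g, (a i g - a j g) ^ 2 = ((5 * (if a i g = a j g then 0 else 1) : ℕ) : ℂ) := by
    intro i j g
    by_cases e : a i g = a j g
    · rw [if_pos e, e]; simp
    · rw [if_neg e, (diff_facts hH (ha i) (ha j) (hrel i j) e).2]; norm_num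
  have hc2 : ∀ g, c g ≤ if g ∈ F then 2 else 0 := by
    intro g
    by_cases hg : g ∈ F
    · rw [if_pos hg]
      by_contra hlt
      have h3 : a 0 g ≠ a 1 g ∧ a 0 g ≠ a 2 g ∧ a 1 g ≠ a 2 g := by
        refine ⟨?_, ?_, ?_⟩ <;> intro e <;> apply hlt <;> simp only [c, e, if_pos] <;>
          (split_ifs <;> omega)
      have e1 := (mul_eq_zero.1 (hrel 0 1 g)).resolve_left (sub_ne_zero.2 h3.1)
      have e2 := (mul_eq_zero.1 (hrel 0 2 g)).resolve_left (sub_ne_zero.2 h3.2.1)
      exact h3.2.2 (by linear_combination e1 - e2)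
    · rw [if_neg hg]
      have key : ∀ i j, a i g = a j g := fun i j => by
        by_contra e
        exact hg (Finset.mem_filter.2 ⟨Finset.mem_univ _, (diff_facts hH (ha i) (ha j) (hrel i j) e).1⟩)
      simp only [c, key 0 1, key 0 2, key 1 2, if_pos, le_refl, add_zero]
  have htot : ((5 * ∑ g : H, c g : ℕ) : ℂ) = 6 * (Nat.card H : ℂ) := by
    calc ((5 * ∑ g : H, c g : ℕ) : ℂ)
        = ∑ g : H, ((a 0 g - a 1 g) ^ 2 + (a 0 g - a 2 g) ^ 2 + (a 1 g - a 2 g) ^ 2) := by
          rw [Finset.mul_sum, Nat.cast_sum]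
          refine Finset.sum_congr rfl fun g _ => ?_
          simp only [hval, c]
          push_cast
          ring
      _ = _ := by
          rw [Finset.sum_add_distrib, Finset.sum_add_distrib, hnorm 0 1 (by decide), hnorm 0 2 (by decide),
            hnorm 1 2 (by decide)]
          ring
  have htot' : 5 * ∑ g : H, c g = 6 * Nat.card H := by exact_mod_cast htot
  have hle : ∑ g : H, c g ≤ 2 * F.card := by
    refine (Finset.sum_le_sum fun g _ => hc2 g).trans (le_of_eq ?_)
    rw [Finset.sum_ite_mem, Finset.univ_inter, Finset.sum_const, smul_eq_mul, mul_comm]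
  have hF := (ha 0).count_five hH
  have hpos : 0 < Nat.card H := Nat.card_pos
  change 5 * F.card ≤ _ at hF
  omega

end Cfsg.Agent.Block.ConstFour
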