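import Cfsg.Agent.Lib.Block.ConstFour.Pieces
import Cfsg.Agent.Lib.Block.ConstFour.OrderFive
import Cfsg.Agent.Lib.Char.Quotient

/-!
The characters not vanishing at the element: the principal one, two real of degree three and one of
degree five.
-/

set_option autoImplicit false

namespace Cfsg.Agent.Block.ConstFour

open Cfsg Cfsg.Agent.Char Cfsg.Agent.Block
open scoped ComplexConjugate

universe u

variable {G : Type u} [Group G] [Fintype G] {u : G}

/-- The complex conjugate. -/
noncomputable def bar (χ : IrrCharacter G) : IrrCharacter G :=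
  ⟨fun g => conj ((χ : G → ℂ) g), IsIrr.conj χ.2⟩

theorem inner_eq_ite [DecidableEq (IrrCharacter G)] (χ ψ : IrrCharacter G) :
    classInner (χ : G → ℂ) (ψ : G → ℂ) = if χ = ψ then 1 else 0 := by
  classical
  rw [classInner_irr_eq_ite χ.2 ψ.2]
  exact if_congr ⟨fun h => Subtype.ext h, fun h => h ▸ rfl⟩ rfl rfl

theorem inner_ne (χ ψ : IrrCharacter G) (h : χ ≠ ψ) : classInner (χ : G → ℂ) (ψ : G → ℂ) = 0 :=
  classInner_irr_ne χ.2 ψ.2 fun e => h (Subtype.ext e)

theorem inner_ne_of_deg (χ ψ : IrrCharacter G) (h : deg χ ≠ deg ψ) :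
    classInner (χ : G → ℂ) (ψ : G → ℂ) = 0 :=
  inner_ne χ ψ fun e => h (e ▸ rfl)

theorem inner_self (χ : IrrCharacter G) : classInner (χ : G → ℂ) (χ : G → ℂ) = 1 :=
  classInner_self_irr χ.2

/-- The product with a conjugate. -/
noncomputable def mix (χ ψ : IrrCharacter G) : G → ℂ := fun g => (χ : G → ℂ) g * conj ((ψ : G → ℂ) g)

theorem isChar_mix (χ ψ : IrrCharacter G) : IsCharacter G (mix χ ψ) :=
  IsChar.mul (IsIrr.isCharacter χ.2) (IsIrr.isCharacter (bar ψ).2)

theorem mix_inner_one (χ ψ : IrrCharacter G) :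
    classInner (mix χ ψ) (fun _ => 1) = classInner (χ : G → ℂ) (ψ : G → ℂ) := by
  simp only [mix, classInner, map_one, mul_one]

theorem mix_inner_mix (χ ψ ω η : IrrCharacter G) :
    classInner (mix χ ψ) (mix ω η) = classInner (mix χ ω) (mix ψ η) := by
  simp only [mix, classInner, map_mul, Complex.conj_conj]
  exact congrArg _ (Finset.sum_congr rfl fun g _ => by ring)

/-- The reduced square modulus. -/
noncomputable def eight (χ : IrrCharacter G) : G → ℂ := fun g => mix χ χ g - 1

theorem isChar_eight (χ : IrrCharacter G) : IsCharacter G (eight χ) :=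
  minus_irr (isChar_mix χ χ) (trivialIrr G) (by
    show classInner (mix χ χ) (fun _ => 1) ≠ 0
    rw [mix_inner_one, inner_self]
    exact one_ne_zero)

theorem eight_inner_one (χ : IrrCharacter G) : classInner (eight χ) (fun _ => 1) = 0 := by
  rw [show eight χ = mix χ χ - fun _ => 1 from rfl, classInner_sub_left, mix_inner_one, inner_self,
    classInner_self_irr isIrr_one, sub_self]

theorem mix_eq (χ : IrrCharacter G) : mix χ χ = (fun _ => 1) + eight χ := by
  funext g; simp [eight]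

theorem Hyp.two_excluded (h : Hyp u) {χ : IrrCharacter G} (hne : χ ≠ trivialIrr G) (h2 : deg χ = 2) :
    val u χ = 0 := by
  rcases h.val_cases hne with h3 | h3
  · exact h3
  exfalso
  obtain ⟨φ, -, -, -, h5, hle⟩ := h.exists_pos (isChar_eight χ) (eight_inner_one χ) (n := 3) (m := 3)
    (by simp only [eight, mix, deg_spec χ, h2, map_natCast]; norm_num)
    (by simp only [eight, mix, h.val_spec χ, h3, h2, map_intCast]; norm_num) (by norm_num)
  omega

theorem Hyp.negative (h : Hyp u) {χ : IrrCharacter G} (hv : val u χ < 0) :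
    χ ≠ trivialIrr G ∧ deg χ = 3 ∧ val u χ = -1 := by
  have hne : χ ≠ trivialIrr G := fun e => by rw [e, val_trivial] at hv; omega
  have h2 := h.two_le hne
  have h3 : val u χ = (deg χ : ℤ) - 4 := (h.val_cases hne).resolve_left hv.ne
  have h4 : deg χ ≠ 2 := fun e => by rw [h.two_excluded hne e] at hv; omega
  exact ⟨hne, by omega, by omega⟩

theorem bar_facts (h : Hyp u) {χ : IrrCharacter G} (hv : val u χ < 0) :
    deg (bar χ) = 3 ∧ val u (bar χ) = -1 := by
  obtain ⟨-, h3, h1⟩ := h.negative hv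
  have e3 : deg (bar χ) = 3 := by
    refine Nat.cast_injective (R := ℂ) ?_
    rw [← deg_spec]
    show conj ((χ : G → ℂ) 1) = _
    rw [deg_spec, h3, map_natCast]
  refine ⟨e3, ?_⟩
  have e1 : ((val u (bar χ) : ℤ) : ℂ) = ((-1 : ℤ) : ℂ) := by
    rw [← h.val_spec]
    show conj ((χ : G → ℂ) u) = _
    rw [h.val_spec, h1, map_intCast]
  exact_mod_cast e1

/-- The square minus the conjugate. -/
noncomputable def six (χ : IrrCharacter G) : G → ℂ :=
  fun g => (χ : G → ℂ) g * (χ : G → ℂ) g - conj ((χ : G → ℂ) g)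

theorem six_facts (h : Hyp u) {χ : IrrCharacter G} (hv : val u χ < 0) :
    IsCharacter G (six χ) ∧ six χ 1 = (6 : ℕ) ∧ six χ u = ((2 : ℤ) : ℂ) ∧
      classInner (six χ) (fun _ => 1) = classInner (χ : G → ℂ) (bar χ : G → ℂ) := by
  obtain ⟨hne, h3, h1⟩ := h.negative hv
  refine ⟨minus_irr (IsChar.mul (IsIrr.isCharacter χ.2) (IsIrr.isCharacter χ.2)) (bar χ)
    (conj_constituent h.perfect χ.2 (by rw [deg_spec χ, h3]; norm_num)), ?_, ?_, ?_⟩
  · simp only [six, deg_spec χ, h3, map_natCast]; norm_num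
  · simp only [six, h.val_spec χ, h1, map_intCast]; norm_num
  · rw [show six χ = mix χ (bar χ) - (bar χ : G → ℂ) from funext fun g => by
      simp [six, mix, bar], classInner_sub_left, mix_inner_one]
    have : classInner (bar χ : G → ℂ) (fun _ => 1) = 0 :=
      inner_ne_of_deg (bar χ) (trivialIrr G) (by
        have h1' : deg (trivialIrr G) = 1 := Nat.cast_injective (R := ℂ) (by
          rw [← deg_spec, Nat.cast_one]; rfl)
        rw [(bar_facts h hv).1, h1']; norm_num)
    rw [this, sub_zero]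

theorem real_case (h : Hyp u) {χ : IrrCharacter G} (hv : val u χ < 0) (hr : bar χ = χ) :
    ∃ F : IrrCharacter G, deg F = 5 ∧ val u F = 1 ∧
      ∀ g, eight χ g = (χ : G → ℂ) g + (F : G → ℂ) g := by
  obtain ⟨hchar, h6, h2, h01⟩ := six_facts h hv
  rw [hr, inner_self] at h01
  set R5 : G → ℂ := fun g => six χ g - 1
  have hR5 : IsCharacter G R5 := minus_irr hchar (trivialIrr G) (by
    show classInner (six χ) (fun _ => 1) ≠ 0
    rw [h01]; exact one_ne_zero)
  have h0 : classInner R5 (fun _ => 1) = 0 := by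
    rw [show R5 = six χ - fun _ => 1 from rfl, classInner_sub_left, h01,
      classInner_self_irr isIrr_one, sub_self]
  have hn : R5 1 = ((5 : ℕ) : ℂ) := by simp only [R5, h6]; norm_num
  have hm : R5 u = ((1 : ℤ) : ℂ) := by simp only [R5, h2]; norm_num
  obtain ⟨F, hne, hF, hvF, h5, hle⟩ := h.exists_pos hR5 h0 hn hm (by norm_num)
  obtain ⟨he, hd⟩ := h.eq_of_large hR5 h0 hn hm hF (by omega)
  refine ⟨F, hd, by rw [(h.deg_of_pos hne hvF).2, hd]; norm_num, fun g => ?_⟩
  have e := congrFun he g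
  have hcg : conj ((χ : G → ℂ) g) = (χ : G → ℂ) g := congrFun (congrArg Subtype.val hr) g
  simp only [R5, six] at e
  simp only [eight, mix, hcg, ← e]
  ring

theorem nonreal_case (h : Hyp u) {χ : IrrCharacter G} (hv : val u χ < 0) (hr : bar χ ≠ χ) :
    ∃ S E : IrrCharacter G, deg S = 6 ∧ val u S = 2 ∧ deg E = 8 ∧ eight χ = (E : G → ℂ) := by
  obtain ⟨hchar, h6, h2, h01⟩ := six_facts h hv
  rw [inner_ne χ (bar χ) (Ne.symm hr)] at h01
  obtain ⟨S, hne, hS, hvS, h5, hle⟩ := h.exists_pos hchar h01 h6 h2 (by norm_num)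
  obtain ⟨he, hd⟩ := h.eq_of_large hchar h01 h6 h2 hS (by omega)
  have hsq : mix χ (bar χ) = (S : G → ℂ) + (bar χ : G → ℂ) := by
    rw [← he]
    funext g
    simp [six, mix, bar]
  have hnorm : classInner (mix χ χ) (mix χ χ) = 2 := by
    have e : classInner (mix χ χ) (mix χ χ) = classInner (mix χ (bar χ)) (mix χ (bar χ)) := by
      simp only [mix, bar, classInner, map_mul, Complex.conj_conj]
      exact congrArg _ (Finset.sum_congr rfl fun g _ => by ring)
    rw [e, hsq, classInner_add_left, classInner_add_right, classInner_add_right, inner_self, inner_self,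
      inner_ne_of_deg S (bar χ) (by rw [(bar_facts h hv).1, hd]; norm_num),
      inner_ne_of_deg (bar χ) S (by rw [(bar_facts h hv).1, hd]; norm_num)]
    norm_num
  have hE : classInner (eight χ) (eight χ) = 1 := by
    have h1e : classInner (fun _ => 1) (eight χ) = 0 := by
      rw [← classInner_conj_symm, eight_inner_one, map_zero]
    rw [mix_eq χ, classInner_add_left, classInner_add_right, classInner_add_right,
      classInner_self_irr isIrr_one, h1e, eight_inner_one] at hnorm
    linear_combination hnorm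
  refine ⟨S, ⟨eight χ, IsChar.irr_of_norm_one (isChar_eight χ) hE⟩, hd, ?_, ?_, rfl⟩
  · rw [(h.deg_of_pos hne hvS).2, hd]; norm_num
  · refine Nat.cast_injective (R := ℂ) ?_
    rw [← deg_spec]
    show eight χ 1 = _
    simp only [eight, mix, deg_spec χ, (h.negative hv).2.1, map_natCast]
    norm_num

theorem mix_facts (h : Hyp u) {χ ψ : IrrCharacter G} (hv : val u χ < 0) (hw : val u ψ < 0)
    (hne : χ ≠ ψ) : mix χ ψ 1 = (9 : ℕ) ∧ mix χ ψ u = ((1 : ℤ) : ℂ) ∧
      classInner (mix χ ψ) (fun _ => 1) = 0 := by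
  obtain ⟨-, h3, h1⟩ := h.negative hv
  obtain ⟨-, k3, k1⟩ := h.negative hw
  refine ⟨?_, ?_, by rw [mix_inner_one, inner_ne χ ψ hne]⟩
  · simp only [mix, deg_spec χ, deg_spec ψ, h3, k3, map_natCast]; norm_num
  · simp only [mix, h.val_spec χ, h.val_spec ψ, h1, k1, map_intCast]; norm_num

theorem eights_meet (h : Hyp u) {χ ψ : IrrCharacter G} (hv : val u χ < 0) (hw : val u ψ < 0)
    (hne : χ ≠ ψ) : classInner (eight χ) (eight ψ) ≠ 0 := by
  obtain ⟨h9, h1, h0⟩ := mix_facts h hv hw hne
  intro hzero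
  have hnorm : classInner (mix χ ψ) (mix χ ψ) = 1 := by
    have h1e : classInner (fun _ => 1) (eight ψ) = 0 := by
      rw [← classInner_conj_symm, eight_inner_one, map_zero]
    rw [mix_inner_mix, mix_eq χ, mix_eq ψ, classInner_add_left, classInner_add_right,
      classInner_add_right, classInner_self_irr isIrr_one, h1e, eight_inner_one, hzero]
    norm_num
  let φ : IrrCharacter G := ⟨mix χ ψ, IsChar.irr_of_norm_one (isChar_mix χ ψ) hnorm⟩
  have hd : deg φ = 9 := Nat.cast_injective (R := ℂ) (by rw [← deg_spec]; exact h9)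
  have hvφ : val u φ = 1 := by
    have e : ((val u φ : ℤ) : ℂ) = ((1 : ℤ) : ℂ) := by rw [← h.val_spec]; exact h1
    exact_mod_cast e
  have hφ1 : φ ≠ trivialIrr G := fun e => by
    have := congrFun (congrArg Subtype.val e) 1
    change mix χ ψ 1 = 1 at this
    rw [h9] at this
    norm_num at this
  rcases h.val_cases hφ1 with e | e <;> omega

theorem inner_ne_zero_of_common {θ η : G → ℂ} (hθ : IsCharacter G θ) (hη : IsCharacter G η)
    {B : IrrCharacter G} (h1 : classInner θ (B : G → ℂ) ≠ 0) (h2 : classInner η (B : G → ℂ) ≠ 0) :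
    classInner θ η ≠ 0 := by
  classical
  obtain ⟨a, ha, hadec⟩ := IsChar.exists_decomp_inner hθ
  obtain ⟨b, hb, hbdec⟩ := IsChar.exists_decomp_inner hη
  rw [hadec, hbdec, classInner_sum_sum]
  intro e
  simp only [map_natCast] at e
  have e' : ∑ φ : IrrCharacter G, a φ * b φ = 0 := by exact_mod_cast e
  rcases Nat.mul_eq_zero.1 ((Finset.sum_eq_zero_iff.1 e') B (Finset.mem_univ _)) with h | h
  · exact h1 (by rw [ha, h, Nat.cast_zero])
  · exact h2 (by rw [hb, h, Nat.cast_zero])

open Classical in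
/-- Column orthogonality against positive characters. -/
theorem bound (h : Hyp u) (S : Finset (IrrCharacter G))
    (hS : ∀ φ ∈ S, φ ≠ trivialIrr G ∧ 0 < val u φ) :
    1 + ∑ φ ∈ S, (deg φ : ℤ) * val u φ ≤
      3 * ((Finset.univ.filter fun χ : IrrCharacter G => val u χ < 0).card : ℤ) := by
  set T := Finset.univ.filter fun χ : IrrCharacter G => val u χ < 0
  have hsum := sum_column h
  rw [← Finset.sum_add_sum_compl T,
    Finset.sum_congr (g := fun _ => (-3 : ℤ)) rfl fun χ hχ => by
      obtain ⟨-, h3, h1⟩ := h.negative (Finset.mem_filter.1 hχ).2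
      rw [h3, h1]; norm_num, Finset.sum_const, nsmul_eq_mul] at hsum
  have hsub : insert (trivialIrr G) S ⊆ Tᶜ := by
    intro φ hφ
    refine Finset.mem_compl.2 fun hT => ?_
    have := (Finset.mem_filter.1 hT).2
    rcases Finset.mem_insert.1 hφ with rfl | hφ
    · rw [val_trivial] at this; omega
    · have := (hS φ hφ).2; omega
  have hle := Finset.sum_le_sum_of_subset_of_nonneg (f := fun φ => (deg φ : ℤ) * val u φ) hsub
    fun φ hφ _ => mul_nonneg (Nat.cast_nonneg _)
      (not_lt.1 fun hlt => Finset.mem_compl.1 hφ (Finset.mem_filter.2 ⟨Finset.mem_univ _, hlt⟩))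
  rw [Finset.sum_insert fun hm => (hS _ hm).1 rfl] at hle
  have h1 : (deg (trivialIrr G) : ℤ) = 1 := by
    have : deg (trivialIrr G) = 1 := Nat.cast_injective (R := ℂ) (by rw [← deg_spec, Nat.cast_one]; rfl)
    rw [this]; rfl
  rw [h1, val_trivial] at hle
  linarith

theorem exists_negative (h : Hyp u) : ∃ χ : IrrCharacter G, val u χ < 0 := by
  classical
  by_contra hc
  push Not at hc
  have := bound h ∅ (by simp)
  rw [Finset.filter_false_of_mem fun χ _ => not_lt.2 (hc χ)] at this
  simp at this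

theorem all_real (h : Hyp u) {χ : IrrCharacter G} (hv : val u χ < 0) : bar χ = χ := by
  classical
  by_contra hr
  obtain ⟨S, E, hS, hvS, hE, h8⟩ := nonreal_case h hv hr
  have hall : ∀ ψ : IrrCharacter G, val u ψ < 0 → eight ψ = (E : G → ℂ) := by
    intro ψ hw
    by_cases hne : χ = ψ
    · exact hne ▸ h8
    have hmeet := eights_meet h hv hw hne
    rw [h8] at hmeet
    by_cases hr' : bar ψ = ψ
    · obtain ⟨F, hF, -, hF8⟩ := real_case h hw hr'
      rw [show eight ψ = (ψ : G → ℂ) + (F : G → ℂ) from funext hF8, classInner_add_right,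
        inner_ne_of_deg E ψ (by rw [hE, (h.negative hw).2.1]; norm_num),
        inner_ne_of_deg E F (by rw [hE, hF]; norm_num), add_zero] at hmeet
      exact absurd rfl hmeet
    · obtain ⟨-, E', -, -, hE', h8'⟩ := nonreal_case h hw hr'
      rw [h8'] at hmeet ⊢
      by_contra hE2
      exact hmeet (classInner_irr_ne E.2 E'.2 fun e => hE2 e.symm)
  have hneS : S ≠ trivialIrr G := fun e => by rw [e, val_trivial] at hvS; norm_num at hvS
  set T := Finset.univ.filter fun χ : IrrCharacter G => val u χ < 0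
  have hB : ∀ ψ ∈ T.erase χ, ∃ B : IrrCharacter G, B ≠ trivialIrr G ∧ 0 < val u B ∧
      classInner (mix χ ψ) (B : G → ℂ) ≠ 0 := by
    intro ψ hψ
    obtain ⟨hne, hT⟩ := Finset.mem_erase.1 hψ
    obtain ⟨h9, h1, h0⟩ := mix_facts h hv (Finset.mem_filter.1 hT).2 (Ne.symm hne)
    obtain ⟨B, hB1, hB2, hB3, -⟩ := h.exists_pos (isChar_mix χ ψ) h0 h9 h1 (by norm_num)
    exact ⟨B, hB1, hB3, hB2⟩
  choose! B hB1 hB2 hB3 using hB
  have hinj : Set.InjOn B (T.erase χ) := by
    intro ψ hψ ω hω e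
    by_contra hne
    obtain ⟨-, hTψ⟩ := Finset.mem_erase.1 hψ
    obtain ⟨-, hTω⟩ := Finset.mem_erase.1 hω
    obtain ⟨h9, h1, h0⟩ := mix_facts h (Finset.mem_filter.1 hTψ).2 (Finset.mem_filter.1 hTω).2 hne
    have hcommon := inner_ne_zero_of_common (isChar_mix χ ψ) (isChar_mix χ ω) (hB3 ψ hψ)
      (by rw [e]; exact hB3 ω hω)
    rw [mix_inner_mix, mix_eq χ, h8, classInner_add_left,
      ← classInner_conj_symm (mix ψ ω) (fun _ => 1), h0, map_zero, zero_add] at hcommon
    have hE0 : classInner (mix ψ ω) (E : G → ℂ) ≠ 0 := fun e0 =>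
      hcommon (by rw [← classInner_conj_symm, e0, map_zero])
    have := (h.eq_of_large (isChar_mix ψ ω) h0 h9 h1 hE0 (by rw [hE]; norm_num)).2
    omega
  have hbarT : bar χ ∈ T := Finset.mem_filter.2 ⟨Finset.mem_univ _, by rw [(bar_facts h hv).2]; norm_num⟩
  have hχT : χ ∈ T := Finset.mem_filter.2 ⟨Finset.mem_univ _, hv⟩
  have h2 : 2 ≤ T.card := by
    have hsub : ({χ, bar χ} : Finset (IrrCharacter G)) ⊆ T := by
      simp [Finset.insert_subset_iff, hχT, hbarT]
    have := Finset.card_le_card hsub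
    rwa [Finset.card_pair (Ne.symm hr)] at this
  have hb1 := bound h {S} fun φ hφ => by
    rw [Finset.mem_singleton.1 hφ]; exact ⟨hneS, by omega⟩
  rw [Finset.sum_singleton, hS, hvS] at hb1
  have hb2 := bound h ((T.erase χ).image B) fun φ hφ => by
    obtain ⟨ψ, hψ, rfl⟩ := Finset.mem_image.1 hφ
    exact ⟨hB1 ψ hψ, hB2 ψ hψ⟩
  rw [Finset.sum_image hinj] at hb2
  have h5 : (5 : ℤ) * ((T.erase χ).card : ℤ) ≤ ∑ ψ ∈ T.erase χ, (deg (B ψ) : ℤ) * val u (B ψ) := by
    rw [mul_comm, ← nsmul_eq_mul]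
    refine Finset.card_nsmul_le_sum _ _ _ fun ψ hψ => ?_
    obtain ⟨h5, -⟩ := h.deg_of_pos (hB1 ψ hψ) (hB2 ψ hψ)
    have h5' : (5 : ℤ) ≤ deg (B ψ) := by exact_mod_cast h5
    have := hB2 ψ hψ
    nlinarith
  rw [Finset.card_erase_of_mem hχT, Nat.cast_sub (by omega)] at h5
  push_cast at h5 hb1
  change _ ≤ 3 * (T.card : ℤ) at hb1
  change _ ≤ 3 * (T.card : ℤ) at hb2
  omega

theorem square_relation (h : Hyp u) {χ : IrrCharacter G} (hv : val u χ < 0) :
    ∃ F : IrrCharacter G, deg F = 5 ∧ val u F = 1 ∧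
      ∀ g, (F : G → ℂ) g = (χ : G → ℂ) g ^ 2 - 1 - (χ : G → ℂ) g := by
  obtain ⟨F, h1, h2, h3⟩ := real_case h hv (all_real h hv)
  refine ⟨F, h1, h2, fun g => ?_⟩
  have hcg : conj ((χ : G → ℂ) g) = (χ : G → ℂ) g := congrFun (congrArg Subtype.val (all_real h hv)) g
  have := h3 g
  simp only [eight, mix, hcg] at this
  linear_combination -this

theorem related (h : Hyp u) {χ ψ : IrrCharacter G} (hv : val u χ < 0) (hw : val u ψ < 0) (g : G) :
    ((χ : G → ℂ) g - (ψ : G → ℂ) g) * ((χ : G → ℂ) g + (ψ : G → ℂ) g - 1) = 0 := by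
  by_cases hne : χ = ψ
  · rw [hne, sub_self, zero_mul]
  obtain ⟨F, hF, -, hF8⟩ := real_case h hv (all_real h hv)
  obtain ⟨F', hF', -, hF8'⟩ := real_case h hw (all_real h hw)
  have hFF : F = F' := by
    by_contra hFF
    refine eights_meet h hv hw hne ?_
    rw [show eight χ = (χ : G → ℂ) + (F : G → ℂ) from funext hF8,
      show eight ψ = (ψ : G → ℂ) + (F' : G → ℂ) from funext hF8', classInner_add_left,
      classInner_add_right, classInner_add_right, inner_ne χ ψ hne, inner_ne F F' hFF,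
      inner_ne_of_deg χ F' (by rw [(h.negative hv).2.1, hF']; norm_num),
      inner_ne_of_deg F ψ (by rw [(h.negative hw).2.1, hF]; norm_num)]
    norm_num
  subst hFF
  have hcg : conj ((χ : G → ℂ) g) = (χ : G → ℂ) g := congrFun (congrArg Subtype.val (all_real h hv)) g
  have hdg : conj ((ψ : G → ℂ) g) = (ψ : G → ℂ) g := congrFun (congrArg Subtype.val (all_real h hw)) g
  have e1 := hF8 g
  have e2 := hF8' g
  simp only [eight, mix, hcg] at e1
  simp only [eight, mix, hdg] at e2
  linear_combination e1 - e2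

theorem same_kernel (h : Hyp u) {χ ψ : IrrCharacter G} (hv : val u χ < 0) (hw : val u ψ < 0) {g : G}
    (hg : (χ : G → ℂ) g = 3) : (ψ : G → ℂ) g = 3 := by
  rcases mul_eq_zero.1 (related h hv hw g) with e | e
  · rw [← hg]; exact (sub_eq_zero.1 e).symm
  · exfalso
    have hb : (ψ : G → ℂ) g = -2 := by linear_combination e - hg
    have hsq := sq_value h.perfect ψ.2 (by rw [deg_spec ψ, (h.negative hw).2.1]; norm_num) g
    rw [hb, map_neg, map_ofNat] at hsq
    have hn := IsChar.norm_le (IsIrr.isCharacter ψ.2) (g ^ 2)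
    rw [hsq, deg_spec ψ, (h.negative hw).2.1] at hn
    norm_num at hn

theorem card_negative_le_two (h : Hyp u) :
    Nat.card {χ : IrrCharacter G // val u χ < 0} ≤ 2 := by
  classical
  by_contra hlt
  rw [Nat.card_eq_fintype_card] at hlt
  obtain ⟨e⟩ : Nonempty (Fin 3 ↪ {χ : IrrCharacter G // val u χ < 0}) :=
    Function.Embedding.nonempty_of_card_le (by rw [Fintype.card_fin]; omega)
  set χ := e 0 with hχdef
  have hχc := IsIrr.isCharacter χ.1.2
  haveI := charKer_normal hχc
  set K := charKer hχc with hK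
  have h3 : ∀ i, (((e i).1 : IrrCharacter G) : G → ℂ) 1 = 3 := fun i => by
    rw [deg_spec, (h.negative (e i).2).2.1]; norm_num
  have hker : ∀ i, ∀ k ∈ K, ((e i).1 : G → ℂ) k = ((e i).1 : G → ℂ) 1 := fun i k hk => by
    rw [h3]
    exact same_kernel h χ.2 (e i).2 (((mem_charKer hχc).1 hk).trans (h3 0))
  choose a hairr ha using fun i => IsIrr.exists_factor_quotient (e i).1.2 K (hker i)
  haveI : Fintype (G ⧸ K) := Fintype.ofFinite _
  have hperf : commutator (G ⧸ K) = ⊤ := by
    rw [commutator_def, ← Subgroup.map_top_of_surjective (QuotientGroup.mk' K) (QuotientGroup.mk'_surjective K),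
      ← Subgroup.map_commutator, ← commutator_def, h.perfect]
  refine no_three hperf a (fun i => ⟨hairr i, ?_, ?_, ?_⟩) ?_ ?_
  · exact (ha i 1).trans (h3 i)
  · intro q
    obtain ⟨g, rfl⟩ := QuotientGroup.mk_surjective q
    rw [ha]
    exact congrFun (congrArg Subtype.val (all_real h (e i).2)) g
  · intro q
    obtain ⟨g, rfl⟩ := QuotientGroup.mk_surjective q
    rw [ha]
    intro hg
    exact (QuotientGroup.eq_one_iff g).2 ((mem_charKer hχc).2 ((same_kernel h (e i).2 χ.2 hg).trans (h3 0).symm))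
  · intro i j hij
    refine e.injective (Subtype.ext (Subtype.ext (funext fun g => ?_)))
    rw [← ha i g, hij, ha j g]
  · intro i j q
    obtain ⟨g, rfl⟩ := QuotientGroup.mk_surjective q
    rw [ha, ha]
    exact related h (e i).2 (e j).2 g

/-- The characters not vanishing at the element. -/
theorem Hyp.support (h : Hyp u) : ∃ a b F : IrrCharacter G, a ≠ b ∧ deg a = 3 ∧ deg b = 3 ∧
    val u a = -1 ∧ val u b = -1 ∧ deg F = 5 ∧ val u F = 1 ∧
    (∀ g, conj ((a : G → ℂ) g) = (a : G → ℂ) g) ∧ (∀ g, conj ((b : G → ℂ) g) = (b : G → ℂ) g) ∧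
    (∀ g, (F : G → ℂ) g = (a : G → ℂ) g ^ 2 - 1 - (a : G → ℂ) g) ∧
    (∀ g, (a : G → ℂ) g = 3 → (b : G → ℂ) g = 3) ∧
    (∀ g, ((a : G → ℂ) g - (b : G → ℂ) g) * ((a : G → ℂ) g + (b : G → ℂ) g - 1) = 0) ∧
    ∀ χ : IrrCharacter G, χ ≠ trivialIrr G → χ ≠ a → χ ≠ b → χ ≠ F → val u χ = 0 := by
  classical
  obtain ⟨a, ha⟩ := exists_negative h
  obtain ⟨F, hF5, hF1, hF⟩ := square_relation h ha
  set T := Finset.univ.filter fun χ : IrrCharacter G => val u χ < 0 with hT
  have hle : T.card ≤ 2 := by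
    have := card_negative_le_two h
    rwa [Nat.card_eq_fintype_card, Fintype.card_subtype] at this
  have hFne : F ≠ trivialIrr G := fun e => by
    have h1 : deg (trivialIrr G) = 1 := Nat.cast_injective (R := ℂ) (by rw [← deg_spec, Nat.cast_one]; rfl)
    rw [e, h1] at hF5; norm_num at hF5
  have haT : a ∈ T := Finset.mem_filter.2 ⟨Finset.mem_univ _, ha⟩
  have hb1 := bound h {F} fun φ hφ => by
    rw [Finset.mem_singleton.1 hφ]; exact ⟨hFne, by omega⟩
  rw [Finset.sum_singleton, hF5, hF1] at hb1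
  change _ ≤ 3 * (T.card : ℤ) at hb1
  have hT2 : T.card = 2 := by push_cast at hb1; omega
  obtain ⟨b, hb, hba⟩ := Finset.exists_mem_ne (by omega : 1 < T.card) a
  have hbv := (Finset.mem_filter.1 hb).2
  refine ⟨a, b, F, hba.symm, (h.negative ha).2.1, (h.negative hbv).2.1, (h.negative ha).2.2,
    (h.negative hbv).2.2, hF5, hF1, congrFun (congrArg Subtype.val (all_real h ha)),
    congrFun (congrArg Subtype.val (all_real h hbv)), hF, fun g => same_kernel h ha hbv,
    related h ha hbv, fun χ hχ hχa hχb hχF => ?_⟩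
  by_contra hv
  rcases lt_or_gt_of_ne hv with hlt | hgt
  · have hsub : ({χ, a, b} : Finset (IrrCharacter G)) ⊆ T := by
      simp [Finset.insert_subset_iff, haT, hb, hT, hlt, ha, hbv]
    have := Finset.card_le_card hsub
    rw [Finset.card_insert_of_notMem (by simp [hχa, hχb]), Finset.card_pair hba.symm] at this
    omega
  · obtain ⟨h5, hv'⟩ := h.deg_of_pos hχ hgt
    have hb2 := bound h {χ, F} fun φ hφ => by
      rcases Finset.mem_insert.1 hφ with rfl | hφ
      · exact ⟨hχ, hgt⟩
      · rw [Finset.mem_singleton.1 hφ]; exact ⟨hFne, by omega⟩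
    rw [Finset.sum_pair hχF, hF5, hF1] at hb2
    change _ ≤ 3 * (T.card : ℤ) at hb2
    rw [hT2] at hb2
    have h5' : (5 : ℤ) ≤ deg χ := by exact_mod_cast h5
    push_cast at hb2
    nlinarith

end Cfsg.Agent.Block.ConstFour
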