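import Cfsg.Agent.Lib.Char.Det
import Cfsg.Agent.Lib.Char.Constituent

/-!
Characters of degree three of perfect groups: eigenvalues, the square, the conjugate constituent.
-/

set_option autoImplicit false

namespace Cfsg.Agent.Block.ConstFour

open Cfsg Cfsg.Agent.Char Module Representation
open scoped ComplexConjugate Matrix

universe u

variable {G : Type u} [Group G] [Finite G]

omit [Finite G] in
theorem linear_eq_one (hG : commutator G = ⊤) (l : G →* ℂˣ) (g : G) : l g = 1 := by
  have h := Abelianization.commutator_subset_ker l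
  rw [hG] at h
  exact MonoidHom.mem_ker.1 (h (Subgroup.mem_top g))

/-- Three eigenvalues of product one and modulus one. -/
theorem eigen (hG : commutator G = ⊤) {χ : G → ℂ} (hχ : IsIrrCharacter G χ) (h3 : χ 1 = 3) (g : G) :
    ∃ c : Fin 3 → ℂ, (∀ k : ℕ, χ (g ^ k) = c 0 ^ k + c 1 ^ k + c 2 ^ k) ∧ c 0 * c 1 * c 2 = 1 ∧
      ∀ i, conj (c i) * c i = 1 := by
  obtain ⟨n, ρ, -, rfl, hn, -⟩ := IsIrr.exists_rep hχ
  obtain rfl : n = 3 := by exact_mod_cast hn.symm.trans h3
  obtain ⟨b, c, hb, hc, hk⟩ := exists_rep_eigenbasis ρ g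
  let e : Fin (finrank ℂ (Fin 3 → ℂ)) ≃ Fin 3 := finCongr (Module.finrank_fin_fun ℂ)
  have hdet : LinearMap.det (ρ g) = ∏ i, c i := by
    rw [← LinearMap.det_toMatrix b, show LinearMap.toMatrix b b (ρ g) = Matrix.diagonal c from ?_,
      Matrix.det_diagonal]
    ext i j
    rw [LinearMap.toMatrix_apply, hb, map_smul, Basis.repr_self, Finsupp.smul_apply, smul_eq_mul,
      Finsupp.single_apply, Matrix.diagonal_apply]
    by_cases hij : j = i
    · simp [hij]
    · simp [hij, Ne.symm hij]
  have h1 : LinearMap.det (ρ g) = 1 := by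
    rw [← detUnits_apply, linear_eq_one hG (detUnits ρ) g, Units.val_one]
  refine ⟨fun i => c (e.symm i), fun k => ?_, ?_, fun i => ?_⟩
  · rw [hk, ← e.symm.sum_comp (fun i => c i ^ k), Fin.sum_univ_three]
  · rw [← h1, hdet, ← e.symm.prod_comp c, Fin.prod_univ_three]
  · have := norm_eq_one_of_pow_eq_one' (orderOf_pos g) (hc (e.symm i))
    rw [Complex.conj_mul', this]
    norm_num

theorem sq_value (hG : commutator G = ⊤) {χ : G → ℂ} (hχ : IsIrrCharacter G χ) (h3 : χ 1 = 3)
    (g : G) : χ (g ^ 2) = χ g ^ 2 - 2 * conj (χ g) := by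
  obtain ⟨c, hk, hp, hc⟩ := eigen hG hχ h3 g
  have h1 := hk 1
  simp only [pow_one] at h1
  have e0 : conj (c 0) = c 1 * c 2 := by linear_combination (c 1 * c 2) * hc 0 - conj (c 0) * hp
  have e1 : conj (c 1) = c 0 * c 2 := by linear_combination (c 0 * c 2) * hc 1 - conj (c 1) * hp
  have e2 : conj (c 2) = c 0 * c 1 := by linear_combination (c 0 * c 1) * hc 2 - conj (c 2) * hp
  rw [hk 2, h1, map_add, map_add, e0, e1, e2]
  ring

/-- A golden value forces order five in a faithful representation. -/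
theorem pow_five (hG : commutator G = ⊤) {χ : G → ℂ} (hχ : IsIrrCharacter G χ) (h3 : χ 1 = 3)
    {g : G} (hreal : conj (χ g) = χ g) (hgold : χ g ^ 2 = χ g + 1) : χ (g ^ 5) = 3 := by
  obtain ⟨c, hk, hp, hc⟩ := eigen hG hχ h3 g
  have h1 := hk 1
  simp only [pow_one] at h1
  have e0 : conj (c 0) = c 1 * c 2 := by linear_combination (c 1 * c 2) * hc 0 - conj (c 0) * hp
  have e1 : conj (c 1) = c 0 * c 2 := by linear_combination (c 0 * c 2) * hc 1 - conj (c 1) * hp
  have e2 : conj (c 2) = c 0 * c 1 := by linear_combination (c 0 * c 1) * hc 2 - conj (c 2) * hp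
  have hs : c 1 * c 2 + c 0 * c 2 + c 0 * c 1 = χ g := by
    rw [← hreal, h1, map_add, map_add, e0, e1, e2]
  have key : ∀ e : ℂ, e ^ 3 - χ g * e ^ 2 + χ g * e - 1 = 0 → e ^ 5 = 1 := by
    intro e he
    have : (e - 1) * (e ^ 2 + (1 - χ g) * e + 1) = 0 := by linear_combination he
    rcases mul_eq_zero.1 this with h | h
    · rw [sub_eq_zero.1 h, one_pow]
    · linear_combination ((e - 1) * (e ^ 2 + χ g * e + 1)) * h +
        ((e - 1) * e ^ 2) * hgold
  have r0 : c 0 ^ 5 = 1 := key _ (by linear_combination ((c 0) ^ 2) * (- h1) - (- (c 0)) * (-hs) + hp)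
  have r1 : c 1 ^ 5 = 1 := key _ (by linear_combination ((c 1) ^ 2) * (- h1) - (- (c 1)) * (-hs) + hp)
  have r2 : c 2 ^ 5 = 1 := key _ (by linear_combination ((c 2) ^ 2) * (- h1) - (- (c 2)) * (-hs) + hp)
  rw [hk, r0, r1, r2]
  norm_num

/-- The conjugate occurs in the square. -/
theorem conj_constituent [Fintype G] (hG : commutator G = ⊤) {χ : G → ℂ} (hχ : IsIrrCharacter G χ)
    (h3 : χ 1 = 3) : classInner (χ * χ) (fun g => conj (χ g)) ≠ 0 := by
  obtain ⟨n, ρ, -, rfl, hn, -⟩ := IsIrr.exists_rep hχ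
  obtain rfl : n = 3 := by exact_mod_cast hn.symm.trans h3
  have hdual : ρ.dual.character = fun g => conj (ρ.character g) :=
    funext fun g => by rw [Representation.char_dual, character_inv]
  intro h0
  have h0' : classInner ρ.dual.character (ρ.tprod ρ).character = 0 := by
    rw [Representation.char_tensor, hdual, ← classInner_conj_symm, h0, map_zero]
  rw [classInner_character, Nat.cast_eq_zero] at h0'
  let B : (Fin 3 → ℂ) →ₗ[ℂ] (Fin 3 → ℂ) →ₗ[ℂ] Module.Dual ℂ (Fin 3 → ℂ) :=
    (crossProduct (R := ℂ)).compr₂ (dotProductBilin ℂ ℂ)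
  have hB : ∀ x y z, B x y z = Matrix.det ![z, x, y] := fun x y z => by
    rw [← triple_product_eq_det, dotProduct_comm]
    rfl
  have hequiv : ∀ (g : G) x y z, B (ρ g x) (ρ g y) (ρ g z) = B x y z := by
    intro g x y z
    simp only [hB]
    have hd : Matrix.det (LinearMap.toMatrix' (ρ g)) = 1 := by
      rw [LinearMap.det_toMatrix', ← detUnits_apply, linear_eq_one hG (detUnits ρ) g, Units.val_one]
    have hm : Matrix.det ![ρ g z, ρ g x, ρ g y] =
        Matrix.det (Matrix.of ![z, x, y] * (LinearMap.toMatrix' (ρ g))ᵀ) := by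
      congr 1
      ext i j
      rw [Matrix.mul_apply]
      simp only [Matrix.transpose_apply, Matrix.of_apply]
      have hv : ∀ v : Fin 3 → ℂ, ρ g v j = ∑ k, v k * LinearMap.toMatrix' (ρ g) j k := fun v => by
        rw [← LinearMap.toMatrix'_mulVec (ρ g) v]
        exact dotProduct_comm _ _
      fin_cases i <;> exact hv _
    rw [hm, Matrix.det_mul, Matrix.det_transpose, hd, mul_one]
    rfl
  have hT : ∀ (g : G) (t : TensorProduct ℂ (Fin 3 → ℂ) (Fin 3 → ℂ)),
      TensorProduct.lift B (ρ.tprod ρ g t) = ρ.dual g (TensorProduct.lift B t) := by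
    intro g t
    induction t using TensorProduct.induction_on with
    | zero => simp
    | add a b ha hb => simp only [map_add, ha, hb]
    | tmul x y =>
      refine LinearMap.ext fun z => ?_
      rw [Representation.tprod_apply, TensorProduct.map_tmul, TensorProduct.lift.tmul,
        TensorProduct.lift.tmul, Representation.dual_apply, Module.Dual.transpose_apply,
        LinearMap.comp_apply, ← hequiv g x y (ρ g⁻¹ z), ← Module.End.mul_apply, ← map_mul,
        mul_inv_cancel, map_one, Module.End.one_apply]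
  have hsub := Module.finrank_zero_iff.1 h0'
  have hz := congrArg (fun f : IntertwiningMap (ρ.tprod ρ) ρ.dual =>
      f.toLinearMap (TensorProduct.tmul ℂ (Pi.single (0 : Fin 3) 1) (Pi.single (1 : Fin 3) 1))
        (Pi.single (2 : Fin 3) 1))
    (hsub.elim ⟨TensorProduct.lift B, fun g => LinearMap.ext fun t => hT g t⟩ 0)
  have : (1 : ℂ) = 0 := by
    refine Eq.trans (Eq.trans ?_ hz) rfl
    show (1 : ℂ) = TensorProduct.lift B _ _
    rw [TensorProduct.lift.tmul, hB]
    refine (Eq.trans (Matrix.det_fin_three (Matrix.of ![Pi.single (2 : Fin 3) (1 : ℂ), Pi.single 0 1, Pi.single 1 1])) ?_).symm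
    simp [Pi.single_apply]
  exact one_ne_zero this

end Cfsg.Agent.Block.ConstFour
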