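import Cfsg.Agent.Lib.Block.ConstFour.DegreeThree
import Cfsg.Agent.Lib.Block.ClassMul
import Cfsg.Agent.Lib.Block.Central

/-!
An element at which every non-principal irreducible character takes its degree minus four or zero:
constituents of characters of small degree.
-/

set_option autoImplicit false

namespace Cfsg.Agent.Block.ConstFour

open Cfsg Cfsg.Agent.Char Cfsg.Agent.Block
open scoped ComplexConjugate

universe u

variable {G : Type u} [Group G] [Fintype G]

/-- The hypothesis. -/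
structure Hyp (u : G) : Prop where
  ne : u ≠ 1
  hyp : ∀ χ : IrrCharacter G, (χ : G → ℂ) ≠ (fun _ => (1 : ℂ)) →
    ((χ : G → ℂ) 1 - (χ : G → ℂ) u = 4 ∨ (χ : G → ℂ) u = 0)

/-- The degree. -/
noncomputable abbrev deg (χ : IrrCharacter G) : ℕ := charDegree (χ : G → ℂ)

open Classical in
/-- The value at the element, as an integer. -/
noncomputable def val (u : G) (χ : IrrCharacter G) : ℤ :=
  if (χ : G → ℂ) = (fun _ => (1 : ℂ)) then 1
  else if (χ : G → ℂ) u = 0 then 0 else (deg χ : ℤ) - 4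

variable {u : G}

theorem val_trivial : val u (trivialIrr G) = 1 := if_pos rfl

theorem deg_spec (χ : IrrCharacter G) : (χ : G → ℂ) 1 = (deg χ : ℂ) := charDeg_spec' χ

theorem Hyp.val_spec (h : Hyp u) (χ : IrrCharacter G) : (χ : G → ℂ) u = (val u χ : ℂ) := by
  unfold val
  split_ifs with h1 h2
  · rw [h1, Int.cast_one]
  · rw [h2, Int.cast_zero]
  · rcases h.hyp χ h1 with h3 | h3
    · rw [deg_spec χ] at h3
      push_cast
      linear_combination -h3
    · exact absurd h3 h2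

theorem Hyp.val_cases (h : Hyp u) {χ : IrrCharacter G} (hne : χ ≠ trivialIrr G) :
    val u χ = 0 ∨ val u χ = (deg χ : ℤ) - 4 := by
  have h1 : ¬ (χ : G → ℂ) = (fun _ => (1 : ℂ)) := fun h1 => hne (Subtype.ext h1)
  unfold val
  rw [if_neg h1]
  split_ifs
  · exact Or.inl rfl
  · exact Or.inr rfl

theorem Hyp.deg_ne_one (h : Hyp u) {χ : IrrCharacter G} (hne : χ ≠ trivialIrr G) : deg χ ≠ 1 := by
  intro h1
  obtain ⟨l, hl⟩ := linearHom_of_isCharacter (IsIrr.isCharacter χ.2) (by rw [deg_spec χ, h1, Nat.cast_one])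
  have h2 : ‖(χ : G → ℂ) u‖ = 1 := by
    rw [hl]
    refine norm_eq_one_of_pow_eq_one' (orderOf_pos u) ?_
    rw [← Units.val_pow_eq_pow_val, ← map_pow, pow_orderOf_eq_one, map_one, Units.val_one]
  rw [h.val_spec] at h2
  rcases h.val_cases hne with h3 | h3 <;> rw [h3] at h2
  · norm_num at h2
  · rw [h1] at h2; norm_num at h2

theorem Hyp.two_le (h : Hyp u) {χ : IrrCharacter G} (hne : χ ≠ trivialIrr G) : 2 ≤ deg χ := by
  have h1 := h.deg_ne_one hne
  have h2 : 0 < deg χ := Block.charDeg_pos χ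
  omega

theorem Hyp.perfect (h : Hyp u) : commutator G = ⊤ := by
  rw [eq_top_iff]
  intro g _
  rw [← Abelianization.ker_of, MonoidHom.mem_ker]
  haveI : Finite (Abelianization G) := Finite.of_surjective _ (QuotientGroup.mk'_surjective (commutator G))
  refine eq_one_of_forall_linear mul_comm fun l => ?_
  by_contra hl
  let χ : IrrCharacter G := ⟨_, isIrr_linear (l.comp Abelianization.of)⟩
  refine h.deg_ne_one (χ := χ) (fun he => hl (Units.ext ?_)) ?_
  · exact congrFun (congrArg Subtype.val he) g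
  · refine Nat.cast_injective (R := ℂ) ?_
    rw [← deg_spec χ]
    show ((l.comp Abelianization.of) 1 : ℂ) = _
    rw [map_one, Units.val_one, Nat.cast_one]

theorem Hyp.deg_of_pos (h : Hyp u) {χ : IrrCharacter G} (hne : χ ≠ trivialIrr G) (hv : 0 < val u χ) :
    5 ≤ deg χ ∧ val u χ = (deg χ : ℤ) - 4 := by
  rcases h.val_cases hne with h3 | h3
  · omega
  · exact ⟨by omega, h3⟩

theorem sum_column (h : Hyp u) : ∑ χ : IrrCharacter G, (deg χ : ℤ) * val u χ = 0 := by
  classical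
  have h1 := regular_expansion (G := G) u
  rw [if_neg h.ne] at h1
  simp only [deg_spec, h.val_spec] at h1
  exact_mod_cast h1

theorem card_centralizer (h : Hyp u) :
    (Nat.card (Subgroup.centralizer ({u} : Set G)) : ℤ) = ∑ χ : IrrCharacter G, val u χ ^ 2 := by
  have h1 := sum_irr_mul_conj (G := G) u u
  rw [if_pos (IsConj.refl u)] at h1
  simp only [h.val_spec, map_intCast, ← pow_two] at h1
  exact_mod_cast h1.symm

/-- The decomposition of a character without trivial constituent. -/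
theorem Hyp.pieces (h : Hyp u) {θ : G → ℂ} (hθ : IsCharacter G θ)
    (h0 : classInner θ (fun _ => 1) = 0) {n : ℕ} (hn : θ 1 = n) {m : ℤ} (hm : θ u = m) :
    ∃ a : IrrCharacter G → ℕ, (∀ φ : IrrCharacter G, classInner θ (φ : G → ℂ) = a φ) ∧
      a (trivialIrr G) = 0 ∧ θ = ∑ φ : IrrCharacter G, (a φ : ℂ) • (φ : G → ℂ) ∧
      ∑ φ, a φ * deg φ = n ∧ ∑ φ, (a φ : ℤ) * val u φ = m := by
  obtain ⟨a, ha, hdec⟩ := IsChar.exists_decomp_inner hθ
  refine ⟨a, ha, ?_, hdec, ?_, ?_⟩
  · have h1 := ha (trivialIrr G)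
    rw [show ((trivialIrr G : IrrCharacter G) : G → ℂ) = (fun _ => 1) from rfl, h0] at h1
    exact_mod_cast h1.symm
  · have h1 := congrFun hdec 1
    rw [hn, sum_irr_apply] at h1
    simp only [deg_spec] at h1
    exact_mod_cast h1.symm
  · have h1 := congrFun hdec u
    rw [hm, sum_irr_apply] at h1
    simp only [h.val_spec] at h1
    exact_mod_cast h1.symm

/-- A constituent of nearly full degree is everything. -/
theorem Hyp.eq_of_large (h : Hyp u) {θ : G → ℂ} (hθ : IsCharacter G θ)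
    (h0 : classInner θ (fun _ => 1) = 0) {n : ℕ} (hn : θ 1 = n) {m : ℤ} (hm : θ u = m)
    {φ : IrrCharacter G} (hφ : classInner θ (φ : G → ℂ) ≠ 0) (hlt : n < deg φ + 2) :
    θ = (φ : G → ℂ) ∧ deg φ = n := by
  classical
  obtain ⟨a, ha, ha0, hdec, hsum, -⟩ := h.pieces hθ h0 hn hm
  have haφ : a φ ≠ 0 := fun e => hφ (by rw [ha, e, Nat.cast_zero])
  have hne : φ ≠ trivialIrr G := fun e => haφ (by rw [e, ha0])
  have h2 := h.two_le hne
  have hsingle : ∀ ψ, ψ ≠ φ → a ψ = 0 := by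
    intro ψ hψ
    by_contra hψ0
    have h3 := h.two_le (χ := ψ) fun e => hψ0 (by rw [e, ha0])
    have h4 := Finset.sum_le_sum_of_subset (f := fun ξ => a ξ * deg ξ) (Finset.subset_univ {φ, ψ})
    rw [Finset.sum_pair hψ.symm, hsum] at h4
    have h5 : deg φ ≤ a φ * deg φ := Nat.le_mul_of_pos_left _ (Nat.pos_of_ne_zero haφ)
    have h6 : deg ψ ≤ a ψ * deg ψ := Nat.le_mul_of_pos_left _ (Nat.pos_of_ne_zero hψ0)
    omega
  rw [Finset.sum_eq_single φ (fun ψ _ hψ => by rw [hsingle ψ hψ, zero_mul])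
    (fun e => absurd (Finset.mem_univ _) e)] at hsum
  have ha1 : a φ = 1 := by
    rcases Nat.lt_or_ge (a φ) 2 with h7 | h7
    · omega
    · have : 2 * deg φ ≤ a φ * deg φ := Nat.mul_le_mul_right _ h7
      omega
  rw [ha1, one_mul] at hsum
  refine ⟨?_, hsum⟩
  rw [hdec, Finset.sum_eq_single φ (fun ψ _ hψ => by rw [hsingle ψ hψ, Nat.cast_zero, zero_smul])
    (fun e => absurd (Finset.mem_univ _) e), ha1, Nat.cast_one, one_smul]

/-- A positive value needs a constituent with a positive value. -/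
theorem Hyp.exists_pos (h : Hyp u) {θ : G → ℂ} (hθ : IsCharacter G θ)
    (h0 : classInner θ (fun _ => 1) = 0) {n : ℕ} (hn : θ 1 = n) {m : ℤ} (hm : θ u = m) (hpos : 0 < m) :
    ∃ φ : IrrCharacter G, φ ≠ trivialIrr G ∧ classInner θ (φ : G → ℂ) ≠ 0 ∧ 0 < val u φ ∧ 5 ≤ deg φ ∧
      deg φ ≤ n := by
  obtain ⟨a, ha, ha0, -, hsum, hsumv⟩ := h.pieces hθ h0 hn hm
  obtain ⟨φ, -, hφ⟩ := Finset.exists_lt_of_sum_lt (f := fun _ : IrrCharacter G => (0 : ℤ))
    (g := fun φ => (a φ : ℤ) * val u φ) (s := Finset.univ) (by rw [Finset.sum_const_zero, hsumv]; exact hpos)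
  have hv : 0 < val u φ := pos_of_mul_pos_right hφ (Nat.cast_nonneg _)
  have haφ : a φ ≠ 0 := fun e => by rw [e, Nat.cast_zero, zero_mul] at hφ; exact lt_irrefl _ hφ
  have hne : φ ≠ trivialIrr G := fun e => haφ (by rw [e, ha0])
  refine ⟨φ, hne, fun e => haφ ?_, hv, (h.deg_of_pos hne hv).1, ?_⟩
  · rw [ha] at e; exact_mod_cast e
  · calc deg φ ≤ a φ * deg φ := Nat.le_mul_of_pos_left _ (Nat.pos_of_ne_zero haφ)
      _ ≤ n := hsum ▸ Finset.single_le_sum (f := fun φ => a φ * deg φ) (fun _ _ => Nat.zero_le _)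
        (Finset.mem_univ φ)

/-- Removing a simple constituent. -/
theorem minus_irr {θ : G → ℂ} (hθ : IsCharacter G θ) (φ : IrrCharacter G)
    (hφ : classInner θ (φ : G → ℂ) ≠ 0) : IsCharacter G (fun g => θ g - (φ : G → ℂ) g) := by
  classical
  refine isCharacter_of_classInner_nat
    (classFunction_sub (IsChar.classFun hθ) (IsIrr.classFun φ.2)) fun ψ' hψ' => ?_
  obtain ⟨a, ha, -⟩ := IsChar.exists_decomp_inner hθ
  obtain ⟨ψ, rfl⟩ : ∃ ψ : IrrCharacter G, ψ' = (ψ : G → ℂ) := ⟨⟨ψ', hψ'⟩, rfl⟩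
  have h1 : classInner (θ - (φ : G → ℂ)) (ψ : G → ℂ) = (a ψ : ℂ) - if (φ : G → ℂ) = ψ then 1 else 0 := by
    rw [classInner_sub_left, ha, classInner_irr_eq_ite φ.2 ψ.2]
  by_cases e : φ = ψ
  · subst e
    have : a φ ≠ 0 := fun e => hφ (by rw [ha, e, Nat.cast_zero])
    exact ⟨a φ - 1, h1.trans (by rw [if_pos rfl, Nat.cast_sub (Nat.one_le_iff_ne_zero.2 this)]; simp)⟩
  · exact ⟨a ψ, h1.trans (by rw [if_neg fun e' => e (Subtype.ext e'), sub_zero])⟩

theorem inner_shift (α β γ : G → ℂ) :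
    classInner (fun g => α g * β g) γ = classInner α (fun g => conj (β g) * γ g) := by
  simp only [classInner, map_mul, Complex.conj_conj]
  exact congrArg _ (Finset.sum_congr rfl fun g _ => by ring)

end Cfsg.Agent.Block.ConstFour
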