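import Cfsg.Agent.Lib.Block.ConstFour.Counting
import Cfsg.Agent.Lib.Invol.V4Simple

/-!
The kernel of a character of degree three: the quotient is simple of order sixty and the elements
over its involutions form one class.
-/

set_option autoImplicit false

namespace Cfsg.Agent.Block.ConstFour

open Cfsg Cfsg.Agent.Char Cfsg.Agent.Block
open scoped ComplexConjugate

universe u

variable {G : Type u} [Group G] [Fintype G] {u : G}

/-- The kernel, with what is needed from it. -/
structure Frame (u : G) (K : Subgroup G) : Prop where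
  perfect : commutator G = ⊤
  not_mem : u ∉ K
  sq_mem : u * u ∈ K
  cent : Nat.card (Subgroup.centralizer ({u} : Set G)) = 4
  invol : ∀ g, g ∉ K → g * g ∈ K → IsConj u g
  coset : ∀ k ∈ K, IsConj u (u * k)
  four : ∀ g, g * g * (g * g) ∈ K → g * g ∈ K
  index : K.index = 60

theorem Hyp.exists_frame (h : Hyp u) : ∃ K : Subgroup G, K.Normal ∧ Frame u K := by
  classical
  obtain ⟨a, b, F, hab, ha3, hb3, hau, hbu, hF5, hFu, har, hbr, hF, hker, hrel, hrest⟩ := h.support
  have hac := IsIrr.isCharacter a.2
  haveI hKn := charKer_normal hac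
  have hmem : ∀ g : G, g ∈ charKer hac ↔ (a : G → ℂ) g = 3 := fun g => by
    rw [mem_charKer hac, deg_spec a, ha3]; norm_num
  set K := charKer hac
  have hcl : ∀ g, IsConj u g → (a : G → ℂ) g = -1 ∧ (b : G → ℂ) g = -1 := fun g hg => by
    obtain ⟨c, rfl⟩ := isConj_iff.1 hg
    rw [IsIrr.classFun a.2, IsIrr.classFun b.2, h.val_spec, h.val_spec, hau, hbu]
    norm_num
  have hdistinct : a ≠ trivialIrr G ∧ b ≠ trivialIrr G ∧ F ≠ trivialIrr G := by
    have h1 : deg (trivialIrr G) = 1 := Nat.cast_injective (R := ℂ) (by rw [← deg_spec, Nat.cast_one]; rfl)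
    refine ⟨?_, ?_, ?_⟩ <;> intro e <;> simp only [e, h1] at * <;> omega
  have hFa : F ≠ a := fun e => by rw [e, ha3] at hF5; omega
  have hFb : F ≠ b := fun e => by rw [e, hb3] at hF5; omega
  have hset : ∀ f : IrrCharacter G → ℂ, (∀ χ, val u χ = 0 → f χ = 0) →
      ∑ χ, f χ = f (trivialIrr G) + f a + f b + f F := by
    intro f hf
    rw [← Finset.sum_subset (Finset.subset_univ ({trivialIrr G, a, b, F} : Finset (IrrCharacter G)))
      fun χ _ hχ => hf χ (by
        simp only [Finset.mem_insert, Finset.mem_singleton, not_or] at hχ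
        exact hrest χ hχ.1 hχ.2.1 hχ.2.2.1 hχ.2.2.2)]
    rw [Finset.sum_insert (by simp [hdistinct.1.symm, hdistinct.2.1.symm, hdistinct.2.2.symm]),
      Finset.sum_insert (by simp [hab, hFa.symm]), Finset.sum_pair hFb.symm]
    ring
  have hcol : ∀ g, ¬ IsConj g u → (b : G → ℂ) g = (a : G → ℂ) g ^ 2 - 2 * (a : G → ℂ) g := by
    intro g hg
    have h1 := sum_irr_mul_conj g u
    rw [if_neg hg, hset _ fun χ hχ => by rw [h.val_spec χ, hχ]; simp] at h1
    rw [h.val_spec a, h.val_spec b, h.val_spec F, hau, hbu, hFu, hF g] at h1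
    simp only [trivialIrr, map_neg, map_one, map_intCast, Int.cast_neg, Int.cast_one, mul_one] at h1
    linear_combination -h1
  have hconv : ∀ g, (a : G → ℂ) g = -1 → IsConj u g := by
    intro g hg
    by_contra hn
    have hb' := hcol g fun e => hn e.symm
    have := hrel g
    rw [hb', hg] at this
    norm_num at this
  have hclass : ∀ g, (a : G → ℂ) g + (b : G → ℂ) g + (a : G → ℂ) g * (b : G → ℂ) g =
      if g ∈ K then 15 else if IsConj u g then -1 else 0 := by
    intro g
    by_cases hg : g ∈ K
    · rw [if_pos hg, (hmem g).1 hg, hker g ((hmem g).1 hg)]; norm_num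
    rw [if_neg hg]
    by_cases hc : IsConj u g
    · rw [if_pos hc, (hcl g hc).1, (hcl g hc).2]; norm_num
    rw [if_neg hc]
    have hb' := hcol g fun e => hc e.symm
    rcases mul_eq_zero.1 (hrel g) with e | e
    · have hz : (a : G → ℂ) g * ((a : G → ℂ) g - 3) = 0 := by linear_combination -hb' - e
      rcases mul_eq_zero.1 hz with e' | e'
      · rw [hb', e']; norm_num
      · exact absurd ((hmem g).2 (sub_eq_zero.1 e')) hg
    · linear_combination (1 + (a : G → ℂ) g) * e - (e - hb')
  have hnotK : ∀ g, IsConj u g → g ∉ K := fun g hg hgK => by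
    have := (hcl g hg).1
    rw [(hmem g).1 hgK] at this
    norm_num at this
  have hcard4 : Nat.card (Subgroup.centralizer ({u} : Set G)) = 4 := by
    have h1 := card_centralizer h
    have h2 : ∑ χ : IrrCharacter G, ((val u χ ^ 2 : ℤ) : ℂ) = 4 := by
      rw [hset _ fun χ hχ => by simp [hχ], val_trivial, hau, hbu, hFu]; norm_num
    rw [← Int.cast_sum, ← h1] at h2
    exact_mod_cast h2
  have hU : 4 * (Finset.univ.filter fun g : G => IsConj u g).card = Nat.card G := by
    have h1 := MulAction.index_stabilizer (ConjAct G) u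
    rw [ConjAct.stabilizer_eq_centralizer] at h1
    have h2 : MulAction.orbit (ConjAct G) u = {g : G | IsConj u g} := by
      ext x; rw [Set.mem_setOf_eq, isConj_comm]; exact ConjAct.mem_orbit_conjAct
    rw [h2, Set.ncard_eq_toFinset_card', Set.toFinset_setOf] at h1
    rw [← h1, ← hcard4]
    exact Subgroup.card_mul_index _
  have hindex : K.index = 60 := by
    have h0 : ∀ χ : IrrCharacter G, χ ≠ trivialIrr G → ∑ g : G, (χ : G → ℂ) g = 0 := by
      intro χ hχ
      have := classInner_irr_ne χ.2 isIrr_one fun e => hχ (Subtype.ext e)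
      simp only [classInner, map_one, mul_one] at this
      exact (mul_eq_zero.1 this).resolve_left (inv_ne_zero (Nat.cast_ne_zero.2 Nat.card_pos.ne'))
    have hab0 : ∑ g : G, (a : G → ℂ) g * (b : G → ℂ) g = 0 := by
      have := classInner_irr_ne a.2 b.2 fun e => hab (Subtype.ext e)
      simp only [classInner, hbr] at this
      exact (mul_eq_zero.1 this).resolve_left (inv_ne_zero (Nat.cast_ne_zero.2 Nat.card_pos.ne'))
    have hsum := Finset.sum_congr (s₁ := Finset.univ) rfl fun g _ => hclass g
    rw [Finset.sum_add_distrib, Finset.sum_add_distrib, h0 a hdistinct.1, h0 b hdistinct.2.1, hab0,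
      Finset.sum_ite, Finset.sum_ite, Finset.sum_const, Finset.sum_const, Finset.sum_const_zero,
      Finset.filter_filter, Finset.filter_congr (p := fun g => g ∉ K ∧ IsConj u g)
      (q := fun g => IsConj u g) fun g _ => and_iff_right_of_imp (hnotK g)] at hsum
    simp only [nsmul_eq_mul, mul_neg, mul_one, add_zero] at hsum
    have hK : (Finset.univ.filter fun g : G => g ∈ K).card = Nat.card K := by
      rw [← Fintype.card_subtype, ← Nat.card_eq_fintype_card]
    rw [hK] at hsum
    have h15 : ((15 * Nat.card K : ℕ) : ℂ) = ((Finset.univ.filter fun g : G => IsConj u g).card : ℂ) := by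
      push_cast; linear_combination -hsum
    have h15' : 15 * Nat.card K = (Finset.univ.filter fun g : G => IsConj u g).card := by exact_mod_cast h15
    refine Nat.eq_of_mul_eq_mul_left (Nat.card_pos (α := K)) ?_
    rw [Subgroup.card_mul_index]
    omega
  have hsq : ∀ g, (a : G → ℂ) (g * g) = (a : G → ℂ) g ^ 2 - 2 * (a : G → ℂ) g := fun g => by
    rw [← pow_two, sq_value h.perfect a.2 (by rw [deg_spec a, ha3]; norm_num), har]
  refine ⟨K, hKn, h.perfect, hnotK u (IsConj.refl u), (hmem _).2 ?_, hcard4, fun g hg hg2 => ?_,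
    fun k hk => hconv _ ?_, fun g hg => ?_, hindex⟩
  · rw [hsq, h.val_spec, hau]; norm_num
  · have e := (hmem _).1 hg2
    rw [hsq] at e
    have : ((a : G → ℂ) g - 3) * ((a : G → ℂ) g + 1) = 0 := by linear_combination e
    rcases mul_eq_zero.1 this with e' | e'
    · exact absurd ((hmem g).2 (sub_eq_zero.1 e')) hg
    · exact hconv g (eq_neg_of_add_eq_zero_left e')
  · rw [show u * k = (u * k * u⁻¹) * u by group,
      char_mul_ker hac ((mem_charKer hac).1 (hKn.conj_mem k hk u)), h.val_spec, hau]
    norm_num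
  · by_contra hg2
    have e := (hmem _).1 hg
    rw [hsq] at e
    have : ((a : G → ℂ) (g * g) - 3) * ((a : G → ℂ) (g * g) + 1) = 0 := by linear_combination e
    rcases mul_eq_zero.1 this with e' | e'
    · exact hg2 ((hmem _).2 (sub_eq_zero.1 e'))
    rw [hsq] at e'
    have h1 : (a : G → ℂ) g = 1 := by
      have : ((a : G → ℂ) g - 1) ^ 2 = 0 := by linear_combination e'
      exact sub_eq_zero.1 (pow_eq_zero_iff (n := 2) (by norm_num) |>.1 this)
    have hgK : g ∉ K := fun hh => hg2 (mul_mem hh hh)
    have hnc : ¬ IsConj g u := fun hh => by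
      have := (hcl g hh.symm).1
      rw [h1] at this; norm_num at this
    have hb' := hcol g hnc
    have hr := hrel g
    rw [hb', h1] at hr
    norm_num at hr

theorem Frame.quotient_perfect {K : Subgroup G} [K.Normal] (h : Frame u K) :
    commutator (G ⧸ K) = ⊤ := by
  rw [commutator_def, ← Subgroup.map_top_of_surjective (QuotientGroup.mk' K) (QuotientGroup.mk'_surjective K),
    ← Subgroup.map_commutator, ← commutator_def, h.perfect]

theorem Frame.no_four {K : Subgroup G} [K.Normal] (h : Frame u K) (q : G ⧸ K)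
    (hq : q * q * (q * q) = 1) : q * q = 1 := by
  obtain ⟨g, rfl⟩ := QuotientGroup.mk_surjective q
  simp only [← QuotientGroup.mk_mul, QuotientGroup.eq_one_iff] at hq ⊢
  exact h.four g hq

theorem Frame.simple {K : Subgroup G} [K.Normal] (h : Frame u K) :
    Nat.card (G ⧸ K) = 60 ∧ IsSimpleGroup (G ⧸ K) := by
  classical
  have h60 : Nat.card (G ⧸ K) = 60 := by rw [← Subgroup.index_eq_card, h.index]
  refine ⟨h60, ?_⟩
  set t : G ⧸ K := (u : G ⧸ K)
  have ht : orderOf t = 2 := by
    refine orderOf_eq_prime ?_ fun e => h.not_mem ((QuotientGroup.eq_one_iff u).1 e)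
    rw [pow_two, ← QuotientGroup.mk_mul, QuotientGroup.eq_one_iff]
    exact h.sq_mem
  have hone : ∀ v : G ⧸ K, orderOf v = 2 → IsConj t v := by
    intro v hv
    obtain ⟨g, rfl⟩ := QuotientGroup.mk_surjective v
    refine (QuotientGroup.mk' K).map_isConj (h.invol g (fun hg => ?_) ?_)
    · rw [(QuotientGroup.eq_one_iff g).2 hg, orderOf_one] at hv
      exact absurd hv (by norm_num)
    · rw [← QuotientGroup.eq_one_iff, QuotientGroup.mk_mul, ← pow_two, ← hv, pow_orderOf_eq_one]
  have h4 : Nat.card (Subgroup.centralizer ({t} : Set (G ⧸ K))) = 4 := by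
    have hpre : QuotientGroup.mk ⁻¹' (MulAction.orbit (ConjAct (G ⧸ K)) t) = {g : G | IsConj u g} := by
      ext g
      rw [Set.mem_preimage, Set.mem_setOf_eq, ConjAct.mem_orbit_conjAct]
      constructor
      · intro hg
        obtain ⟨c, hc⟩ := isConj_iff.1 hg.symm
        obtain ⟨d, rfl⟩ := QuotientGroup.mk_surjective c
        rw [← QuotientGroup.mk_inv, ← QuotientGroup.mk_mul, ← QuotientGroup.mk_mul] at hc
        have hk : (d * u * d⁻¹)⁻¹ * g ∈ K := QuotientGroup.eq.1 hc
        have hk' := Subgroup.Normal.conj_mem inferInstance _ hk d⁻¹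
        refine (h.coset _ hk').trans (isConj_iff.2 ⟨d, ?_⟩)
        group
      · intro hg
        exact ((QuotientGroup.mk' K).map_isConj hg).symm
    have hc1 := Nat.card_congr (QuotientGroup.preimageMkEquivSubgroupProdSet K
      (MulAction.orbit (ConjAct (G ⧸ K)) t))
    rw [hpre, Nat.card_prod] at hc1
    have hU : 4 * Nat.card {g : G | IsConj u g} = Nat.card G := by
      have h1 := MulAction.index_stabilizer (ConjAct G) u
      rw [ConjAct.stabilizer_eq_centralizer] at h1
      have h2 : MulAction.orbit (ConjAct G) u = {g : G | IsConj u g} := by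
        ext x; rw [Set.mem_setOf_eq, isConj_comm]; exact ConjAct.mem_orbit_conjAct
      rw [h2] at h1
      rw [Nat.card_coe_set_eq, ← h1, ← h.cent]
      exact Subgroup.card_mul_index _
    have h1 := MulAction.index_stabilizer (ConjAct (G ⧸ K)) t
    rw [ConjAct.stabilizer_eq_centralizer, ← Nat.card_coe_set_eq] at h1
    have hc2 : Nat.card {g : G | IsConj u g} =
        Nat.card K * Nat.card (MulAction.orbit (ConjAct (G ⧸ K)) t) := hc1
    have hG := Subgroup.card_mul_index K
    rw [h.index] at hG
    have h15 : (Subgroup.centralizer ({t} : Set (G ⧸ K))).index = 15 := by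
      have hKpos : 0 < Nat.card K := Nat.card_pos
      have h1' : (Subgroup.centralizer ({t} : Set (G ⧸ K))).index =
          Nat.card (MulAction.orbit (ConjAct (G ⧸ K)) t) := h1
      rw [← h1'] at hc2
      have : Nat.card K * (Subgroup.centralizer ({t} : Set (G ⧸ K))).index = Nat.card K * 15 := by omega
      exact Nat.eq_of_mul_eq_mul_left hKpos this
    have h2 := Subgroup.card_mul_index (Subgroup.centralizer ({t} : Set (G ⧸ K)))
    rw [h15, h60] at h2
    omega
  refine Invol.V4Order.simple_of_sixty ht h4 (fun c hc => ?_) hone h60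
  refine h.no_four c ?_
  have hord : orderOf c ∣ 4 := h4 ▸ Subgroup.orderOf_dvd_natCard _ hc
  rw [← pow_two, ← pow_two, ← pow_mul]
  exact orderOf_dvd_iff_pow_eq_one.1 hord

end Cfsg.Agent.Block.ConstFour
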